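import Groth.Agent.GrpdFieldLib.Sep
import Groth.Agent.GrpdLib.Quot.Sub
import Groth.Agent.GrpFieldLib.Uniq
import Groth.Agent.S4628
import Groth.Agent.SweepSix.FieldsRed
import Groth.Agent.DevissLib.ClosedImm
import Groth.Agent.S4667

/-!
# Closures and scheme-theoretic images of morphisms of groupoids over fields
-/

set_option autoImplicit false
set_option linter.style.haveILetI false
set_option backward.isDefEq.respectTransparency false
universe u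
open CategoryTheory CategoryTheory.Limits AlgebraicGeometry
open ConormalSecLib (cmp_congr comp_cmp)
open Groth.Agent.GrpField

noncomputable section

namespace GrpdFieldLib

/-- A morphism from a reduced scheme landing in the range of a closed immersion factors through it. -/
theorem exists_lift_of_reduced {C A Z : Scheme.{u}} (j : C ⟶ A) [IsClosedImmersion j] [IsReduced Z] (h : Z ⟶ A)
    (hr : Set.range h ⊆ Set.range j) : ∃ l : Z ⟶ C, l ≫ j = h := by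
  haveI : IsClosedImmersion (pullback.snd j h) := MorphismProperty.pullback_snd _ _ inferInstance
  haveI : Surjective (pullback.snd j h) := ⟨Set.range_eq_univ.mp (by
    rw [Scheme.Pullback.range_snd]
    exact Set.eq_univ_of_forall fun z => hr ⟨z, rfl⟩)⟩
  haveI := isIso_of_isClosedImmersion_of_surjective (pullback.snd j h)
  exact ⟨inv (pullback.snd j h) ≫ pullback.fst j h, by
    rw [Category.assoc, pullback.condition, IsIso.inv_hom_id_assoc]⟩

section Topology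

variable {U : Scheme.{u}} {k : Type u} [Field k] (eU : U ≅ Spec (CommRingCat.of k))

include eU in
theorem universallyOpen_to {X : Scheme.{u}} (f : X ⟶ U) : UniversallyOpen f :=
  (MorphismProperty.cancel_right_of_respectsIso @UniversallyOpen f eU.hom).1 (universallyOpen_field _)

include eU in
theorem flat_to {X : Scheme.{u}} (f : X ⟶ U) : Flat f :=
  (MorphismProperty.cancel_right_of_respectsIso @Flat f eU.hom).1 (flat_field _)

variable {X Y B : Scheme.{u}} (f : X ⟶ U) (g : Y ⟶ U)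

include eU in
theorem closure_left (E : Set X) (b : B ⟶ Y) :
    pullback.fst f g ⁻¹' closure E ∩ pullback.snd f g ⁻¹' Set.range b ⊆
      closure (pullback.fst f g ⁻¹' E ∩ pullback.snd f g ⁻¹' Set.range b) := by
  rintro q ⟨hq₁, hq₂⟩
  haveI := universallyOpen_to eU (b ≫ g)
  haveI : UniversallyOpen (pullback.fst f (b ≫ g)) := MorphismProperty.pullback_fst _ _ inferInstance
  let m : pullback f (b ≫ g) ⟶ pullback f g := pullback.map _ _ _ _ (𝟙 X) b (𝟙 U) (by simp) (by simp)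
  have hm : Set.range m = pullback.fst f g ⁻¹' Set.range (𝟙 X : X ⟶ X) ∩ pullback.snd f g ⁻¹' Set.range b :=
    Scheme.Pullback.range_map _ _ _ _ _ _ _ _ _
  have hm1 : ∀ w, pullback.fst f g (m w) = pullback.fst f (b ≫ g) w := fun w => by
    rw [← Scheme.Hom.comp_apply, show m ≫ pullback.fst f g = pullback.fst f (b ≫ g) from
      (pullback.lift_fst _ _ _).trans (Category.comp_id _)]
  obtain ⟨q', rfl⟩ : q ∈ Set.range m := by
    rw [hm]; exact ⟨⟨pullback.fst f g q, rfl⟩, hq₂⟩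
  have h1 : q' ∈ closure (pullback.fst f (b ≫ g) ⁻¹' E) :=
    (pullback.fst f (b ≫ g)).isOpenMap.preimage_closure_subset_closure_preimage
      (show pullback.fst f (b ≫ g) q' ∈ closure E from hm1 q' ▸ hq₁)
  refine map_mem_closure m.continuous h1 fun w hw => ?_
  exact ⟨show pullback.fst f g (m w) ∈ E from (hm1 w).symm ▸ hw, ((hm.le) ⟨w, rfl⟩).2⟩

include eU in
theorem closure_right (E : Set Y) (a : B ⟶ X) :
    pullback.fst f g ⁻¹' Set.range a ∩ pullback.snd f g ⁻¹' closure E ⊆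
      closure (pullback.fst f g ⁻¹' Set.range a ∩ pullback.snd f g ⁻¹' E) := by
  rintro q ⟨hq₁, hq₂⟩
  haveI := universallyOpen_to eU (a ≫ f)
  haveI : UniversallyOpen (pullback.snd (a ≫ f) g) := MorphismProperty.pullback_snd _ _ inferInstance
  let m : pullback (a ≫ f) g ⟶ pullback f g := pullback.map _ _ _ _ a (𝟙 Y) (𝟙 U) (by simp) (by simp)
  have hm : Set.range m = pullback.fst f g ⁻¹' Set.range a ∩ pullback.snd f g ⁻¹' Set.range (𝟙 Y : Y ⟶ Y) :=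
    Scheme.Pullback.range_map _ _ _ _ _ _ _ _ _
  have hm2 : ∀ w, pullback.snd f g (m w) = pullback.snd (a ≫ f) g w := fun w => by
    rw [← Scheme.Hom.comp_apply, show m ≫ pullback.snd f g = pullback.snd (a ≫ f) g from
      (pullback.lift_snd _ _ _).trans (Category.comp_id _)]
  obtain ⟨q', rfl⟩ : q ∈ Set.range m := by
    rw [hm]; exact ⟨hq₁, ⟨pullback.snd f g q, rfl⟩⟩
  have h1 : q' ∈ closure (pullback.snd (a ≫ f) g ⁻¹' E) :=
    (pullback.snd (a ≫ f) g).isOpenMap.preimage_closure_subset_closure_preimage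
      (show pullback.snd (a ≫ f) g q' ∈ closure E from hm2 q' ▸ hq₂)
  refine map_mem_closure m.continuous h1 fun w hw => ?_
  exact ⟨((hm.le) ⟨w, rfl⟩).1, show pullback.snd f g (m w) ∈ E from (hm2 w).symm ▸ hw⟩

include eU in
theorem mem_closure_prod {A : Scheme.{u}} (a : A ⟶ X) (b : B ⟶ Y) :
    pullback.fst f g ⁻¹' closure (Set.range a) ∩ pullback.snd f g ⁻¹' closure (Set.range b) ⊆
      closure (pullback.fst f g ⁻¹' Set.range a ∩ pullback.snd f g ⁻¹' Set.range b) := by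
  let I := Scheme.IdealSheafData.vanishingIdeal (X := X) ⟨closure (Set.range a), isClosed_closure⟩
  have hr : Set.range I.subschemeι = closure (Set.range a) := by
    rw [Scheme.IdealSheafData.range_subschemeι, Scheme.IdealSheafData.coe_support_vanishingIdeal]
    rfl
  intro q hq
  have h1 := closure_right eU f g (Set.range b) I.subschemeι ⟨by rw [Set.mem_preimage, hr]; exact hq.1, hq.2⟩
  refine closure_minimal ?_ isClosed_closure h1
  rw [hr]
  exact closure_left eU f g (Set.range a) b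

end Topology

variable {S : Scheme.{u}} {G₁ G₂ : Grpd.GroupoidScheme S} (f : Grpd.GroupoidScheme.Hom G₁ G₂)

theorem cmp_map {T : Scheme.{u}} (α β : T ⟶ G₁.R) (h : α ≫ G₁.s = β ≫ G₁.t) :
    ConormalSecLib.cmp G₁ α β h ≫ f.fR = ConormalSecLib.cmp G₂ (α ≫ f.fR) (β ≫ f.fR)
      (by rw [Category.assoc, Category.assoc, f.comm_s, f.comm_t, reassoc_of% h]) :=
  f.comm_c α β h

theorem hom_e : G₁.e ≫ f.fR = f.fU ≫ G₂.e := by
  have hs : (G₁.e ≫ f.fR) ≫ G₂.s = f.fU := by rw [Category.assoc, f.comm_s, reassoc_of% G₁.e_s]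
  have ht : (G₁.e ≫ f.fR) ≫ G₂.t = f.fU := by rw [Category.assoc, f.comm_t, reassoc_of% G₁.e_t]
  have hcond : (G₁.e ≫ f.fR) ≫ G₂.s = (G₁.e ≫ f.fR) ≫ G₂.t := hs.trans ht.symm
  have hee : ConormalSecLib.cmp G₂ (G₁.e ≫ f.fR) (G₁.e ≫ f.fR) hcond = G₁.e ≫ f.fR := by
    refine (cmp_map f G₁.e G₁.e (by rw [G₁.e_s, G₁.e_t])).symm.trans ?_
    congr 1
    refine Eq.trans ?_ (G₁.comp_e G₁.e)
    exact cmp_congr G₁ rfl (by rw [reassoc_of% G₁.e_s])
  have h := ConormalSecLib.cmp_inv_cmp_left G₂ (G₁.e ≫ f.fR) (G₁.e ≫ f.fR) hcond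
    (by rw [ConormalSecLib.cmp, G₂.comp_t, Category.assoc, G₂.i_s])
  rw [cmp_congr G₂ rfl hee] at h
  refine h.symm.trans ((G₂.i_comp _).trans ?_)
  rw [← Category.assoc, hs]

theorem hom_i : G₁.i ≫ f.fR = f.fR ≫ G₂.i := by
  have h₀ : 𝟙 G₁.R ≫ G₁.s = G₁.i ≫ G₁.t := by rw [Category.id_comp, G₁.i_t]
  have hc : f.fR ≫ G₂.s = (G₁.i ≫ f.fR) ≫ G₂.t := by rw [Category.assoc, f.comm_t, f.comm_s, reassoc_of% G₁.i_t]
  have hcomp : ConormalSecLib.cmp G₂ f.fR (G₁.i ≫ f.fR) hc = f.fR ≫ G₂.t ≫ G₂.e := by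
    refine (cmp_congr G₂ (Category.id_comp _).symm rfl).trans ((cmp_map f (𝟙 _) G₁.i h₀).symm.trans ?_)
    have : ConormalSecLib.cmp G₁ (𝟙 G₁.R) G₁.i h₀ = G₁.t ≫ G₁.e :=
      (cmp_congr G₁ rfl (Category.id_comp _).symm).trans ((G₁.comp_i (𝟙 _)).trans (Category.id_comp _))
    rw [this, Category.assoc, hom_e, reassoc_of% f.comm_t]
  have h := ConormalSecLib.cmp_inv_cmp_left G₂ f.fR (G₁.i ≫ f.fR) hc
    (by rw [ConormalSecLib.cmp, G₂.comp_t, Category.assoc, G₂.i_s])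
  rw [cmp_congr G₂ rfl hcomp] at h
  refine h.symm.trans (Eq.trans ?_ (G₂.comp_e (f.fR ≫ G₂.i)))
  exact cmp_congr G₂ rfl (by rw [Category.assoc, reassoc_of% G₂.i_s])

variable [IsIso f.fU] {k : Type u} [Field k] (eU : G₂.U ≅ Spec (CommRingCat.of k))

include eU in
theorem comp_mem_closure (p : ↑(pullback G₂.s G₂.t))
    (h₁ : pullback.fst G₂.s G₂.t p ∈ closure (Set.range ⇑f.fR))
    (h₂ : pullback.snd G₂.s G₂.t p ∈ closure (Set.range ⇑f.fR)) :
    G₂.c p ∈ closure (Set.range ⇑f.fR) := by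
  let m : pullback G₁.s G₁.t ⟶ pullback G₂.s G₂.t :=
    pullback.map _ _ _ _ f.fR f.fR f.fU f.comm_s.symm f.comm_t.symm
  have hm : Set.range m = pullback.fst G₂.s G₂.t ⁻¹' Set.range f.fR ∩ pullback.snd G₂.s G₂.t ⁻¹' Set.range f.fR :=
    Scheme.Pullback.range_map _ _ _ _ _ _ _ _ _
  have hmc : m ≫ G₂.c = G₁.c ≫ f.fR := by
    have h := cmp_map f (pullback.fst G₁.s G₁.t) (pullback.snd G₁.s G₁.t) pullback.condition
    have e1 : pullback.lift (pullback.fst G₁.s G₁.t) (pullback.snd G₁.s G₁.t) pullback.condition = 𝟙 _ := by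
      apply pullback.hom_ext <;> simp
    rw [ConormalSecLib.cmp, e1, Category.id_comp] at h
    exact h.symm
  refine map_mem_closure G₂.c.continuous (mem_closure_prod eU G₂.s G₂.t f.fR f.fR ⟨h₁, h₂⟩) ?_
  rw [← hm]
  rintro _ ⟨w, rfl⟩
  exact ⟨G₁.c w, by rw [← Scheme.Hom.comp_apply, ← hmc, Scheme.Hom.comp_apply]⟩

section Sub

variable {Z : Scheme.{u}} (ι₀ : Z ⟶ G₂.R) [IsClosedImmersion ι₀]
  (e' : G₂.U ⟶ Z) (he : e' ≫ ι₀ = G₂.e) (i' : Z ⟶ Z) (hi : i' ≫ ι₀ = ι₀ ≫ G₂.i)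
  (c' : pullback (ι₀ ≫ G₂.s) (ι₀ ≫ G₂.t) ⟶ Z)
  (hc : c' ≫ ι₀ = pullback.lift (pullback.fst (ι₀ ≫ G₂.s) (ι₀ ≫ G₂.t) ≫ ι₀)
    (pullback.snd (ι₀ ≫ G₂.s) (ι₀ ≫ G₂.t) ≫ ι₀)
    (by rw [Category.assoc, Category.assoc, pullback.condition]) ≫ G₂.c)

/-- a closed subgroupoid with the same objects -/
abbrev closedSub : Grpd.GroupoidScheme S :=
  GrpdLib.sub G₂ (𝟙 G₂.U) ι₀ (ι₀ ≫ G₂.s) (ι₀ ≫ G₂.t) (Category.comp_id _) (Category.comp_id _)
    e' (by rw [he, Category.id_comp]) i' hi c' hc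

/-- its inclusion -/
def closedSubHom : Grpd.GroupoidScheme.Hom (closedSub ι₀ e' he i' hi c' hc) G₂ where
  fU := 𝟙 G₂.U
  fR := ι₀
  fU_over := rfl
  comm_s := (Category.comp_id _).symm
  comm_t := (Category.comp_id _).symm
  comm_c := fun α β h => GrpdLib.sub_comp G₂ (𝟙 G₂.U) ι₀ (ι₀ ≫ G₂.s) (ι₀ ≫ G₂.t) (Category.comp_id _)
    (Category.comp_id _) c' hc α β h

end Sub

omit [IsIso f.fU] in
theorem geometricallyReduced_of_perfect [PerfectField k] {X : Scheme.{u}} (g : X ⟶ Spec (CommRingCat.of k))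
    [IsReduced X] : GeometricallyReduced g := by
  refine ⟨geometrically_iff_of_commRing_of_isClosedUnderIsomorphisms.mpr fun F _ _ => ?_⟩
  have := SweepSix.FieldsRed.gr_specMap_of_perfect (k := k) F
  have := Groth.Agent.S4628.result (Spec.map (CommRingCat.ofHom (algebraMap k F))) g
  exact isReduced_of_isOpenImmersion
    (pullbackSymmetry g (Spec.map (CommRingCat.ofHom (algebraMap k F)))).hom

include eU in
theorem exists_closure_groupoid [PerfectField k] :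
    ∃ (G' : Grpd.GroupoidScheme S) (ψ : Grpd.GroupoidScheme.Hom G' G₂),
      IsIso ψ.fU ∧ IsClosedImmersion ψ.fR ∧ IsReduced G'.R ∧ Set.range ⇑ψ.fR = closure (Set.range ⇑f.fR) := by
  obtain ⟨Z, ι₀, _, _, hr⟩ : ∃ (Z : Scheme.{u}) (ι₀ : Z ⟶ G₂.R), IsClosedImmersion ι₀ ∧ IsReduced Z ∧
      Set.range ι₀ = closure (Set.range ⇑f.fR) := by
    refine ⟨(Scheme.IdealSheafData.vanishingIdeal (X := G₂.R)
      ⟨closure (Set.range ⇑f.fR), isClosed_closure⟩).subscheme, Scheme.IdealSheafData.subschemeι _,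
      inferInstance, DevissLib.isReduced_vanishingIdeal' _, ?_⟩
    rw [Scheme.IdealSheafData.range_subschemeι, Scheme.IdealSheafData.coe_support_vanishingIdeal]
    rfl
  haveI : IsReduced G₂.U :=
    haveI : IsReduced (Spec (CommRingCat.of k)) := inferInstance
    isReduced_of_isOpenImmersion eU.hom
  obtain ⟨e', he⟩ := exists_lift_of_reduced ι₀ G₂.e (by
    rw [hr]; rintro _ ⟨q, rfl⟩
    refine subset_closure ⟨G₁.e (inv f.fU q), ?_⟩
    rw [← Scheme.Hom.comp_apply, hom_e, ← Scheme.Hom.comp_apply, IsIso.inv_hom_id_assoc])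
  obtain ⟨i', hi⟩ := exists_lift_of_reduced ι₀ (ι₀ ≫ G₂.i) (by
    rw [hr]; rintro _ ⟨q, rfl⟩
    rw [Scheme.Hom.comp_apply]
    refine map_mem_closure G₂.i.continuous (hr.le ⟨q, rfl⟩) ?_
    rintro _ ⟨w, rfl⟩
    exact ⟨G₁.i w, by rw [← Scheme.Hom.comp_apply, hom_i, Scheme.Hom.comp_apply]⟩)
  haveI : IsReduced (pullback (ι₀ ≫ G₂.s) (ι₀ ≫ G₂.t)) := by
    haveI := geometricallyReduced_of_perfect ((ι₀ ≫ G₂.s) ≫ eU.hom)
    haveI := Groth.Agent.S4628.result ((ι₀ ≫ G₂.s) ≫ eU.hom) ((ι₀ ≫ G₂.t) ≫ eU.hom)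
    exact isReduced_of_isOpenImmersion (pullback.map (ι₀ ≫ G₂.s) (ι₀ ≫ G₂.t)
      ((ι₀ ≫ G₂.s) ≫ eU.hom) ((ι₀ ≫ G₂.t) ≫ eU.hom) (𝟙 Z) (𝟙 Z) eU.hom (by simp) (by simp))
  obtain ⟨c', hc⟩ := exists_lift_of_reduced ι₀
    (pullback.lift (pullback.fst (ι₀ ≫ G₂.s) (ι₀ ≫ G₂.t) ≫ ι₀)
      (pullback.snd (ι₀ ≫ G₂.s) (ι₀ ≫ G₂.t) ≫ ι₀)
      (by rw [Category.assoc, Category.assoc, pullback.condition]) ≫ G₂.c) (by
    rw [hr]; rintro _ ⟨q, rfl⟩
    rw [Scheme.Hom.comp_apply]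
    refine comp_mem_closure f eU _ ?_ ?_
    · rw [← Scheme.Hom.comp_apply, pullback.lift_fst, Scheme.Hom.comp_apply]; exact hr.le ⟨_, rfl⟩
    · rw [← Scheme.Hom.comp_apply, pullback.lift_snd, Scheme.Hom.comp_apply]; exact hr.le ⟨_, rfl⟩)
  exact ⟨closedSub ι₀ e' he i' hi c' hc, closedSubHom ι₀ e' he i' hi c' hc,
    inferInstanceAs (IsIso (𝟙 G₂.U)), inferInstanceAs (IsClosedImmersion ι₀), inferInstanceAs (IsReduced Z), hr⟩

omit [IsIso f.fU] in
theorem ker_toImage {X Y : Scheme.{u}} (g : X ⟶ Y) [QuasiCompact g] : g.toImage.ker = ⊥ := by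
  refine Scheme.IdealSheafData.ext_of_iSup_eq_top
    (fun U : Y.affineOpens => ⟨g.imageι ⁻¹ᵁ U, U.2.preimage g.imageι⟩) ?_ (fun U => ?_)
  · rw [← top_le_iff]
    intro z _
    obtain ⟨U, hU, hzU, -⟩ := exists_isAffineOpen_mem_and_subset (show g.imageι z ∈ (⊤ : Y.Opens) from trivial)
    exact TopologicalSpace.Opens.mem_iSup.2 ⟨⟨U, hU⟩, hzU⟩
  · rw [Scheme.Hom.ker_apply, Scheme.IdealSheafData.ideal_bot]
    exact (RingHom.injective_iff_ker_eq_bot _).1 (g.toImage_app_injective U)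

omit [IsIso f.fU] in
theorem ker_pullback_map_left {U X X' Y : Scheme.{u}} (a : X' ⟶ X) [QuasiCompact a] (ha : a.ker = ⊥)
    (p : X ⟶ U) (q : Y ⟶ U) [Flat q] (m : pullback (a ≫ p) q ⟶ pullback p q)
    (h₁ : m ≫ pullback.fst p q = pullback.fst (a ≫ p) q ≫ a)
    (h₂ : m ≫ pullback.snd p q = pullback.snd (a ≫ p) q) : m.ker = ⊥ := by
  haveI : Flat (pullback.fst p q) := MorphismProperty.pullback_fst _ _ inferInstance
  have h := Groth.Agent.S4667.result a (pullback.fst p q)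
  rw [ha, Scheme.IdealSheafData.comap_bot] at h
  have sq : IsPullback (pullback.fst (a ≫ p) q) m a (pullback.fst p q) := by
    refine IsPullback.of_bot ?_ h₁.symm (IsPullback.of_hasPullback p q)
    rw [h₂]
    exact IsPullback.of_hasPullback (a ≫ p) q
  rw [← sq.isoPullback_hom_snd, Scheme.Hom.ker_comp_of_isIso, h]

omit [IsIso f.fU] in
theorem quasiCompact_pullback_map_left {U X X' Y : Scheme.{u}} (a : X' ⟶ X) [QuasiCompact a]
    (p : X ⟶ U) (q : Y ⟶ U) (m : pullback (a ≫ p) q ⟶ pullback p q)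
    (h₁ : m ≫ pullback.fst p q = pullback.fst (a ≫ p) q ≫ a)
    (h₂ : m ≫ pullback.snd p q = pullback.snd (a ≫ p) q) : QuasiCompact m := by
  have sq : IsPullback (pullback.fst (a ≫ p) q) m a (pullback.fst p q) := by
    refine IsPullback.of_bot ?_ h₁.symm (IsPullback.of_hasPullback p q)
    rw [h₂]
    exact IsPullback.of_hasPullback (a ≫ p) q
  exact MorphismProperty.of_isPullback sq inferInstance

include eU in
theorem exists_image_groupoid [QuasiCompact f.fR] :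
    ∃ (G' : Grpd.GroupoidScheme S) (ψ : Grpd.GroupoidScheme.Hom G' G₂) (φ : Grpd.GroupoidScheme.Hom G₁ G'),
      IsIso ψ.fU ∧ IsClosedImmersion ψ.fR ∧ ψ.fR.ker = f.fR.ker ∧ IsIso φ.fU ∧
      φ.fR.ker = ⊥ ∧ φ.fU ≫ ψ.fU = f.fU ∧ φ.fR ≫ ψ.fR = f.fR := by
  obtain ⟨Z, ι₀, _, tI, htI, htIq, hker, htk⟩ : ∃ (Z : Scheme.{u}) (ι₀ : Z ⟶ G₂.R) (_ : IsClosedImmersion ι₀)
      (tI : G₁.R ⟶ Z), tI ≫ ι₀ = f.fR ∧ QuasiCompact tI ∧ ι₀.ker = f.fR.ker ∧ tI.ker = ⊥ :=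
    ⟨f.fR.image, f.fR.imageι, inferInstance, f.fR.toImage, f.fR.toImage_imageι, inferInstance,
      Scheme.IdealSheafData.ker_subschemeι _, ker_toImage _⟩
  haveI := htIq
  have hle : ∀ {W : Scheme.{u}} (g : W ⟶ G₂.R) (w : G₂.U ≅ W) (g' : G₂.U ⟶ G₁.R), w.hom ≫ g = g' ≫ f.fR →
      ι₀.ker ≤ g.ker := fun g w g' h => by
    rw [hker, ← Scheme.Hom.ker_comp_of_isIso w.hom g, h]
    exact Scheme.Hom.le_ker_comp _ _
  have he₀ : G₂.e = (inv f.fU ≫ G₁.e ≫ tI) ≫ ι₀ := by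
    simp only [Category.assoc, htI, hom_e, IsIso.inv_hom_id_assoc]
  have hik : ι₀.ker ≤ (ι₀ ≫ G₂.i).ker := by
    refine le_of_le_of_eq (hker.le.trans ?_)
      (show (tI ≫ ι₀ ≫ G₂.i).ker = (ι₀ ≫ G₂.i).ker by
        rw [Scheme.Hom.ker_comp tI, htk, Scheme.IdealSheafData.map_bot])
    rw [reassoc_of% htI, ← hom_i]
    exact Scheme.Hom.le_ker_comp _ _
  let X := pullback.lift (pullback.fst (ι₀ ≫ G₂.s) (ι₀ ≫ G₂.t) ≫ ι₀)
      (pullback.snd (ι₀ ≫ G₂.s) (ι₀ ≫ G₂.t) ≫ ι₀)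
      (by rw [Category.assoc, Category.assoc, pullback.condition]) ≫ G₂.c
  let m₁ : pullback (tI ≫ ι₀ ≫ G₂.s) (ι₀ ≫ G₂.t) ⟶ pullback (ι₀ ≫ G₂.s) (ι₀ ≫ G₂.t) :=
    pullback.map _ _ _ _ tI (𝟙 Z) (𝟙 _) (by simp) (by simp)
  let σ := pullback.map (tI ≫ ι₀ ≫ G₂.t) (tI ≫ ι₀ ≫ G₂.s) (ι₀ ≫ G₂.t) (tI ≫ ι₀ ≫ G₂.s) tI (𝟙 G₁.R) (𝟙 _)
    (by simp) (by simp)
  haveI := flat_to eU (ι₀ ≫ G₂.t)
  haveI := flat_to eU (tI ≫ ι₀ ≫ G₂.s)
  haveI hq1 : QuasiCompact m₁ := quasiCompact_pullback_map_left tI (ι₀ ≫ G₂.s) (ι₀ ≫ G₂.t) m₁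
    (pullback.lift_fst _ _ _) ((pullback.lift_snd _ _ _).trans (Category.comp_id _))
  have k1 : m₁.ker = ⊥ := ker_pullback_map_left tI htk (ι₀ ≫ G₂.s) (ι₀ ≫ G₂.t) m₁
    (pullback.lift_fst _ _ _) ((pullback.lift_snd _ _ _).trans (Category.comp_id _))
  have k2 : σ.ker = ⊥ := ker_pullback_map_left tI htk (ι₀ ≫ G₂.t) (tI ≫ ι₀ ≫ G₂.s) σ
    (pullback.lift_fst _ _ _) ((pullback.lift_snd _ _ _).trans (Category.comp_id _))
  let n := (pullbackSymmetry _ _).hom ≫ σ ≫ (pullbackSymmetry (ι₀ ≫ G₂.t) (tI ≫ ι₀ ≫ G₂.s)).hom ≫ m₁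
  have hn : n.ker = ⊥ := by
    rw [Scheme.Hom.ker_comp_of_isIso, Scheme.Hom.ker_comp σ, k2, Scheme.IdealSheafData.map_bot,
      Scheme.Hom.ker_comp_of_isIso, k1]
  let P := pullback (tI ≫ ι₀ ≫ G₂.s) (tI ≫ ι₀ ≫ G₂.t)
  have hn1 : n ≫ pullback.fst (ι₀ ≫ G₂.s) (ι₀ ≫ G₂.t) = pullback.fst _ _ ≫ tI := by
    simp only [n, m₁, σ, Category.assoc, pullback.map, pullback.lift_fst, pullbackSymmetry_hom_comp_fst_assoc,
      pullback.lift_snd_assoc, Category.id_comp, pullbackSymmetry_hom_comp_snd_assoc]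
  have hn2 : n ≫ pullback.snd (ι₀ ≫ G₂.s) (ι₀ ≫ G₂.t) = pullback.snd _ _ ≫ tI := by
    simp only [n, m₁, σ, Category.assoc, pullback.map, pullback.lift_snd, Category.comp_id,
      pullbackSymmetry_hom_comp_snd, pullback.lift_fst, pullbackSymmetry_hom_comp_fst_assoc]
  have hcond : pullback.fst (tI ≫ ι₀ ≫ G₂.s) (tI ≫ ι₀ ≫ G₂.t) ≫ G₁.s =
      pullback.snd (tI ≫ ι₀ ≫ G₂.s) (tI ≫ ι₀ ≫ G₂.t) ≫ G₁.t := by
    rw [← cancel_mono f.fU, Category.assoc, Category.assoc, ← f.comm_s, ← f.comm_t, ← htI,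
      Category.assoc, Category.assoc]
    exact pullback.condition
  have hX : n ≫ X = ConormalSecLib.cmp G₁ _ _ hcond ≫ f.fR := by
    rw [cmp_map]
    refine (comp_cmp G₂ n _ _ _).trans (cmp_congr G₂ ?_ ?_)
    · rw [reassoc_of% hn1, htI]
    · rw [reassoc_of% hn2, htI]
  have hck : ι₀.ker ≤ X.ker := by
    refine le_of_le_of_eq (hker.le.trans ?_)
      (show (n ≫ X).ker = X.ker by rw [Scheme.Hom.ker_comp n, hn, Scheme.IdealSheafData.map_bot])
    rw [hX]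
    exact Scheme.Hom.le_ker_comp _ _
  let G' := closedSub ι₀ (inv f.fU ≫ G₁.e ≫ tI) he₀.symm (IsClosedImmersion.lift ι₀ _ hik)
    (IsClosedImmersion.lift_fac _ _ _) (IsClosedImmersion.lift ι₀ X hck) (IsClosedImmersion.lift_fac _ _ _)
  let φ : Grpd.GroupoidScheme.Hom G₁ G' :=
    { fU := f.fU
      fR := tI
      fU_over := by show f.fU ≫ 𝟙 _ ≫ G₂.pU = _; rw [Category.id_comp, f.fU_over]
      comm_s := by show tI ≫ ι₀ ≫ G₂.s = _; rw [reassoc_of% htI, f.comm_s]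
      comm_t := by show tI ≫ ι₀ ≫ G₂.t = _; rw [reassoc_of% htI, f.comm_t]
      comm_c := fun α β h => by
        refine (cancel_mono ι₀).1 ((Category.assoc _ _ _).trans
          ((congrArg (_ ≫ ·) htI).trans ((f.comm_c α β h).trans ?_)))
        refine Eq.trans ?_ ((closedSubHom ι₀ (inv f.fU ≫ G₁.e ≫ tI) he₀.symm
          (IsClosedImmersion.lift ι₀ _ hik) (IsClosedImmersion.lift_fac _ _ _) (IsClosedImmersion.lift ι₀ X hck)
          (IsClosedImmersion.lift_fac _ _ _)).comm_c (α ≫ tI) (β ≫ tI) _).symm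
        exact cmp_congr G₂ (by rw [← htI]; exact (Category.assoc _ _ _).symm)
          (by rw [← htI]; exact (Category.assoc _ _ _).symm) }
  exact ⟨G', closedSubHom ι₀ _ _ _ _ _ _, φ, inferInstanceAs (IsIso (𝟙 G₂.U)),
    inferInstanceAs (IsClosedImmersion ι₀), hker, inferInstanceAs (IsIso f.fU), htk, Category.comp_id _, htI⟩

end GrpdFieldLib

end
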