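import Mathlib

/-!
# Homomorphisms from fields into finitely generated domains
-/

set_option autoImplicit false
universe u v
open Polynomial PrimeSpectrum

namespace GrpdFieldLib

/-- A field maps only into the constants of a finitely generated domain over an algebraically closed field. -/
theorem mem_range_algebraMap_of_field {k : Type v} [Field k] {K B : Type u} [Field K] [IsAlgClosed K]
    [CommRing B] [IsDomain B] [Algebra K B] [Algebra.FiniteType K B] (g : k →+* B) (f : k) :
    g f ∈ Set.range (algebraMap K B) := by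
  classical
  by_contra hf
  have hroot : ∀ p : K[X], p ≠ 0 → aeval (g f) p ≠ 0 := by
    intro p hp h0
    rw [(IsAlgClosed.splits p).eq_prod_roots] at h0
    simp only [map_mul, aeval_C, map_multiset_prod, Multiset.map_map, mul_eq_zero,
      map_eq_zero, leadingCoeff_eq_zero, hp, false_or, Multiset.prod_eq_zero_iff] at h0
    obtain ⟨c, -, hc⟩ := Multiset.mem_map.1 h0
    exact hf ⟨c, (sub_eq_zero.1 (by simpa using hc)).symm⟩
  let φ : K[X] →+* B := (aeval (g f) : K[X] →ₐ[K] B).toRingHom
  have hφ : Function.Injective φ := (injective_iff_map_eq_zero _).2 fun p hp => by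
    by_contra h; exact hroot p h hp
  have hfp : φ.FinitePresentation := by
    refine RingHom.FinitePresentation.of_finiteType.1 ?_
    have h : (φ.comp C).FiniteType := by
      have : φ.comp C = algebraMap K B := RingHom.ext fun c => aeval_C _ c
      rw [this]; exact RingHom.finiteType_algebraMap.2 inferInstance
    exact RingHom.FiniteType.of_comp_finiteType h
  obtain ⟨D, hD⟩ := exists_constructibleSetData_iff.2 (isConstructible_range_comap hfp)
  let η : PrimeSpectrum K[X] := ⟨⊥, Ideal.isPrime_bot⟩
  have hη : η ∈ D.toSet := by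
    rw [hD]
    refine ⟨⟨⊥, Ideal.isPrime_bot⟩, PrimeSpectrum.ext ?_⟩
    exact Ideal.comap_bot_of_injective φ hφ
  simp only [ConstructibleSetData.toSet, Set.mem_iUnion] at hη
  obtain ⟨C₀, hC₀, hg0, hh0⟩ := hη
  have hh : C₀.f ≠ 0 := fun h => hh0 (by simp [η, h])
  obtain ⟨n, hn, hp⟩ := Nat.exists_infinite_primes (C₀.f.natDegree + ringChar K + 1)
  have hnK : (n : K) ≠ 0 := fun h => by
    rcases hp.eq_one_or_self_of_dvd _ ((ringChar.spec K n).1 h) with h1 | h1
    · exact CharP.ringChar_ne_one h1
    · omega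
  have hsep : ((X : K[X]) ^ n - Polynomial.C 1).Separable := separable_X_pow_sub_C 1 hnK one_ne_zero
  obtain ⟨c, hc, hch⟩ : ∃ c ∈ ((X : K[X]) ^ n - Polynomial.C 1).roots.toFinset, C₀.f.eval c ≠ 0 := by
    by_contra hall
    push Not at hall
    have h1 : ((X : K[X]) ^ n - Polynomial.C 1).roots.toFinset.card ≤ C₀.f.roots.toFinset.card :=
      Finset.card_le_card fun c hc => by rw [Multiset.mem_toFinset, mem_roots hh]; exact hall c hc
    rw [Multiset.toFinset_card_of_nodup (nodup_roots hsep),
      IsAlgClosed.card_roots_eq_natDegree, natDegree_X_pow_sub_C] at h1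
    have h2 := (Multiset.toFinset_card_le _).trans (card_roots' C₀.f)
    omega
  have hcn : c ^ n = 1 := by
    rw [Multiset.mem_toFinset, mem_roots (hsep.ne_zero)] at hc
    simpa [sub_eq_zero] using hc
  let P : PrimeSpectrum K[X] := ⟨Ideal.span {X - Polynomial.C c},
    (Ideal.span_singleton_prime (X_sub_C_ne_zero c)).2 (prime_X_sub_C c)⟩
  have hP : P ∈ D.toSet := by
    simp only [ConstructibleSetData.toSet, Set.mem_iUnion]
    refine ⟨C₀, hC₀, ?_, ?_⟩
    · intro p hp
      have := hg0 hp
      simp only [η, SetLike.mem_coe, Ideal.mem_bot] at this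
      simp [P, this]
    · simp only [mem_zeroLocus, Set.singleton_subset_iff, SetLike.mem_coe, P, Ideal.mem_span_singleton,
        dvd_iff_isRoot]
      exact hch
  rw [hD] at hP
  obtain ⟨Q, hQ⟩ := hP
  have hQc : φ (X - Polynomial.C c) ∈ Q.asIdeal := by
    rw [← Ideal.mem_comap, show Q.asIdeal.comap φ = P.asIdeal from congrArg PrimeSpectrum.asIdeal hQ]
    exact Ideal.mem_span_singleton_self _
  have hne : f ^ n - 1 ≠ 0 := by
    intro h0
    refine hroot ((X : K[X]) ^ n - Polynomial.C 1) hsep.ne_zero ?_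
    have h1 : g f ^ n = 1 := by rw [← map_pow, sub_eq_zero.1 h0, map_one]
    simp [h1]
  have hu : IsUnit (φ ((X : K[X]) ^ n - Polynomial.C 1)) := by
    have : φ ((X : K[X]) ^ n - Polynomial.C 1) = g (f ^ n - 1) := by simp [φ]
    rw [this]
    exact (isUnit_iff_ne_zero.2 hne).map g
  obtain ⟨r, hr⟩ : X - Polynomial.C c ∣ (X : K[X]) ^ n - Polynomial.C 1 :=
    dvd_iff_isRoot.2 (by simp [hcn])
  refine Q.isPrime.ne_top (Ideal.eq_top_of_isUnit_mem _ ?_ hu)
  rw [hr, map_mul]
  exact Ideal.mul_mem_right _ _ hQc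

end GrpdFieldLib
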