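import Groth.Agent.ConormalSecLib.Grpd
import Mathlib.AlgebraicGeometry.Morphisms.Separated
import Mathlib.AlgebraicGeometry.Morphisms.QuasiSeparated
import Mathlib.AlgebraicGeometry.Morphisms.ClosedImmersion

/-!
# Separation of the morphism `(t, s)` of a groupoid
-/

set_option autoImplicit false
set_option linter.style.haveILetI false
set_option backward.isDefEq.respectTransparency false
universe u
open CategoryTheory CategoryTheory.Limits AlgebraicGeometry
open ConormalSecLib (cmp cmp_congr comp_cmp cmp_cmp_inv_left)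

noncomputable section

namespace GrpdFieldLib

variable {S : Scheme.{u}} (G : Grpd.GroupoidScheme S)

theorem j_t : G.j ≫ pullback.fst G.pU G.pU = G.t := pullback.lift_fst _ _ _

theorem j_s : G.j ≫ pullback.snd G.pU G.pU = G.s := pullback.lift_snd _ _ _

theorem fst_snd_t : pullback.fst G.j G.j ≫ G.t = pullback.snd G.j G.j ≫ G.t := by
  have h := congrArg (· ≫ pullback.fst G.pU G.pU) (pullback.condition (f := G.j) (g := G.j))
  simpa only [Category.assoc, j_t] using h

theorem fst_snd_s : pullback.fst G.j G.j ≫ G.s = pullback.snd G.j G.j ≫ G.s := by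
  have h := congrArg (· ≫ pullback.snd G.pU G.pU) (pullback.condition (f := G.j) (g := G.j))
  simpa only [Category.assoc, j_s] using h

theorem jdiv_cond : (pullback.fst G.j G.j ≫ G.i) ≫ G.s = pullback.snd G.j G.j ≫ G.t := by
  rw [Category.assoc, G.i_s, fst_snd_t]

/-- `(a, b) ↦ a⁻¹ b` for parallel arrows -/
def jdiv : pullback G.j G.j ⟶ G.R :=
  cmp G (pullback.fst G.j G.j ≫ G.i) (pullback.snd G.j G.j) (jdiv_cond G)

theorem diag_fst : G.diag ≫ pullback.fst G.pU G.pU = 𝟙 G.U := pullback.lift_fst _ _ _

theorem diag_snd : G.diag ≫ pullback.snd G.pU G.pU = 𝟙 G.U := pullback.lift_snd _ _ _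

theorem jdiv_j : jdiv G ≫ G.j = (pullback.fst G.j G.j ≫ G.s) ≫ G.diag := by
  apply pullback.hom_ext
  · rw [Category.assoc, j_t, Category.assoc, diag_fst, Category.comp_id, jdiv, ConormalSecLib.cmp, G.comp_t,
      Category.assoc, G.i_t]
  · rw [Category.assoc, j_s, Category.assoc, diag_snd, Category.comp_id, jdiv, ConormalSecLib.cmp, G.comp_s,
      fst_snd_s]

/-- `(a, b) ↦ a⁻¹ b` into the stabilizer -/
def toStab : pullback G.j G.j ⟶ pullback G.j G.diag :=
  pullback.lift (jdiv G) (pullback.fst G.j G.j ≫ G.s) (jdiv_j G)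

theorem toStab_fst : toStab G ≫ pullback.fst G.j G.diag = jdiv G := pullback.lift_fst _ _ _

theorem toStab_snd : toStab G ≫ pullback.snd G.j G.diag = pullback.fst G.j G.j ≫ G.s :=
  pullback.lift_snd _ _ _

/-- the unit of the stabilizer -/
abbrev eSt : G.U ⟶ pullback G.j G.diag := G.eStab

theorem eStab_fst : eSt G ≫ pullback.fst G.j G.diag = G.e := pullback.lift_fst _ _ _

theorem eStab_snd : eSt G ≫ pullback.snd G.j G.diag = 𝟙 G.U := pullback.lift_snd _ _ _

theorem diagonal_jdiv : pullback.diagonal G.j ≫ jdiv G = G.s ≫ G.e := by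
  rw [jdiv, comp_cmp]
  refine Eq.trans ?_ (G.i_comp (𝟙 G.R) |>.trans (Category.id_comp _))
  exact cmp_congr G (by rw [← Category.assoc, pullback.diagonal_fst]) (pullback.diagonal_snd _)

theorem diagonal_toStab : pullback.diagonal G.j ≫ toStab G = G.s ≫ eSt G := by
  apply pullback.hom_ext
  · rw [Category.assoc, toStab_fst, diagonal_jdiv, Category.assoc, eStab_fst]
  · rw [Category.assoc, toStab_snd, Category.assoc, eStab_snd, Category.comp_id, pullback.diagonal_fst_assoc]

theorem isPullback_diagonal_j : IsPullback G.s (pullback.diagonal G.j) (eSt G) (toStab G) := by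
  refine ⟨⟨(diagonal_toStab G).symm⟩, ⟨PullbackCone.IsLimit.mk _ (fun c => c.snd ≫ pullback.fst G.j G.j)
    (fun c => ?_) (fun c => ?_) (fun c m _ h => ?_)⟩⟩
  · have h := congrArg (· ≫ pullback.snd G.j G.diag) c.condition
    simp only [Category.assoc, eStab_snd, toStab_snd, Category.comp_id] at h
    rw [Category.assoc, ← h]
  · have h1 := congrArg (· ≫ pullback.fst G.j G.diag) c.condition
    have h2 := congrArg (· ≫ pullback.snd G.j G.diag) c.condition
    simp only [Category.assoc, eStab_fst, toStab_fst, eStab_snd, toStab_snd, Category.comp_id] at h1 h2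
    apply pullback.hom_ext
    · rw [Category.assoc, pullback.diagonal_fst, Category.comp_id]
    · rw [Category.assoc, pullback.diagonal_snd, Category.comp_id]
      rw [jdiv, comp_cmp, cmp_congr G (Category.assoc _ _ _).symm rfl] at h1
      have h3 := cmp_cmp_inv_left G (c.snd ≫ pullback.fst G.j G.j) (c.snd ≫ pullback.snd G.j G.j)
        (by rw [Category.assoc, fst_snd_t, Category.assoc])
        (by rw [Category.assoc, Category.assoc, G.i_s, Category.assoc, fst_snd_t])
        (by rw [ConormalSecLib.cmp, G.comp_t, Category.assoc, Category.assoc, Category.assoc, G.i_t])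
      rw [cmp_congr G rfl h1.symm, cmp_congr G rfl (show c.fst ≫ G.e =
        (c.snd ≫ pullback.fst G.j G.j) ≫ G.s ≫ G.e by rw [h2]; simp [Category.assoc])] at h3
      exact (G.comp_e _).symm.trans h3
  · rw [← h, Category.assoc, pullback.diagonal_fst, Category.comp_id]

theorem isClosedImmersion_eStab_of_isSeparated [IsSeparated G.stabilizerToU] : IsClosedImmersion G.eStab := by
  haveI : IsClosedImmersion (G.eStab ≫ G.stabilizerToU) := by
    rw [Grpd.GroupoidScheme.stabilizerToU, eStab_snd]; infer_instance
  exact IsClosedImmersion.of_comp _ G.stabilizerToU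

theorem quasiCompact_eStab_of_quasiSeparated [QuasiSeparated G.stabilizerToU] : QuasiCompact G.eStab := by
  haveI : QuasiCompact (G.eStab ≫ G.stabilizerToU) := by
    rw [Grpd.GroupoidScheme.stabilizerToU, eStab_snd]; infer_instance
  exact QuasiCompact.of_comp _ G.stabilizerToU

theorem isSeparated_j [IsClosedImmersion G.eStab] : IsSeparated G.j :=
  have h : IsClosedImmersion (eSt G) := ‹IsClosedImmersion G.eStab›
  ⟨MorphismProperty.of_isPullback (P := @IsClosedImmersion) (isPullback_diagonal_j G) h⟩

theorem quasiSeparated_j [QuasiCompact G.eStab] : QuasiSeparated G.j :=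
  have h : QuasiCompact (eSt G) := ‹QuasiCompact G.eStab›
  ⟨MorphismProperty.of_isPullback (P := @QuasiCompact) (isPullback_diagonal_j G) h⟩

theorem isSeparated_j_tfae :
    ((IsSeparated G.j ↔ IsSeparated G.stabilizerToU) ∧
      (IsSeparated G.stabilizerToU ↔ IsClosedImmersion G.eStab)) ∧
    ((QuasiSeparated G.j ↔ QuasiSeparated G.stabilizerToU) ∧
      (QuasiSeparated G.stabilizerToU ↔ QuasiCompact G.eStab)) := by
  have f1 : IsSeparated G.j → IsSeparated G.stabilizerToU := fun h =>
    MorphismProperty.pullback_snd (P := @IsSeparated) _ _ h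
  have f2 : IsSeparated G.stabilizerToU → IsClosedImmersion G.eStab :=
    fun h => haveI := h; isClosedImmersion_eStab_of_isSeparated G
  have f3 : IsClosedImmersion G.eStab → IsSeparated G.j := fun h => haveI := h; isSeparated_j G
  have g1 : QuasiSeparated G.j → QuasiSeparated G.stabilizerToU := fun h =>
    MorphismProperty.pullback_snd (P := @QuasiSeparated) _ _ h
  have g2 : QuasiSeparated G.stabilizerToU → QuasiCompact G.eStab :=
    fun h => haveI := h; quasiCompact_eStab_of_quasiSeparated G
  have g3 : QuasiCompact G.eStab → QuasiSeparated G.j := fun h => haveI := h; quasiSeparated_j G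
  exact ⟨⟨⟨f1, fun h => f3 (f2 h)⟩, f2, fun h => f1 (f3 h)⟩, ⟨g1, fun h => g3 (g2 h)⟩, g2, fun h => g1 (g3 h)⟩

theorem isSeparated_R_of_field (k : Type u) [Field k] (eU : G.U ≅ Spec (CommRingCat.of k)) :
    G.R.IsSeparated := by
  haveI : Subsingleton ↥(Spec (CommRingCat.of k)) := inferInstanceAs (Subsingleton (PrimeSpectrum k))
  haveI : Subsingleton ↥G.U := (Scheme.homeoOfIso eU).toEquiv.subsingleton
  haveI : IsClosedImmersion G.eStab := isClosedImmersion_of_comp_eq_id G.stabilizerToU G.eStab (eStab_snd G)
  haveI := isSeparated_j G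
  haveI : IsAffine G.U := IsAffine.of_isIso eU.hom
  haveI : IsSeparated (G.pU ≫ terminal.from S) := by
    rw [show G.pU ≫ terminal.from S = terminal.from G.U from Subsingleton.elim _ _]; infer_instance
  haveI : IsSeparated G.pU := IsSeparated.of_comp _ (terminal.from S)
  refine ⟨?_⟩
  rw [show terminal.from G.R = G.j ≫ pullback.fst G.pU G.pU ≫ terminal.from G.U from Subsingleton.elim _ _]
  infer_instance

theorem isOpenMap_comp_of_field (k : Type u) [Field k] (eU : G.U ≅ Spec (CommRingCat.of k))
    (h : IsPullback G.c (pullback.snd G.s G.t) G.s G.s) : IsOpenMap G.c := by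
  haveI : Subsingleton ↥(Spec (CommRingCat.of k)) := inferInstanceAs (Subsingleton (PrimeSpectrum k))
  haveI : UniversallyOpen (G.s ≫ eU.hom) := inferInstance
  haveI : UniversallyOpen G.s := by
    have := MorphismProperty.cancel_right_of_respectsIso @UniversallyOpen G.s eU.hom
    exact this.1 inferInstance
  haveI : UniversallyOpen G.c := MorphismProperty.of_isPullback (P := @UniversallyOpen) h.flip ‹_›
  exact G.c.isOpenMap

end GrpdFieldLib

end
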