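import Groth.Agent.GrpdFieldLib.Smooth
import Groth.Agent.GrpdFieldLib.Sep
import Groth.Agent.GrpdFieldLib.FieldConst
import Groth.Agent.FibDimLib.SchemeInv
import Groth.Agent.FibDimLib.Comps
import Groth.Agent.DevissLib.ClosedImm

/-!
# Dimensions of groupoids over fields
-/

set_option autoImplicit false
set_option linter.style.haveILetI false
set_option backward.isDefEq.respectTransparency false
universe u
open CategoryTheory CategoryTheory.Limits AlgebraicGeometry
open Groth.Agent.GrpField Groth.Agent.HomogDense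

noncomputable section

namespace GrpdFieldLib

variable {S : Scheme.{u}} (G : Grpd.GroupoidScheme S) {k : Type u} [Field k]
  (eU : G.U ≅ Spec (CommRingCat.of k))

include eU in
/-- base change to a field does not change local dimensions -/
theorem localDim_fst {K : Type u} [Field K] {X : Scheme.{u}} (f : X ⟶ G.U) [LocallyOfFiniteType f]
    (x : Spec (CommRingCat.of K) ⟶ G.U) (w : ↥(pullback f x)) :
    FlatMor.localDim ↥(pullback f x) w = FlatMor.localDim X (pullback.fst f x w) := by
  obtain ⟨φ, hφ⟩ := Spec.map_surjective (x ≫ eU.hom)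
  letI := φ.hom.toAlgebra
  have h : IsPullback (pullback.fst f x) (pullback.snd f x) (f ≫ eU.hom)
      (Spec.map (CommRingCat.ofHom (algebraMap k K))) := by
    rw [show CommRingCat.ofHom (algebraMap k K) = φ from rfl, hφ]
    exact (IsPullback.of_hasPullback f x).of_iso (Iso.refl _) (Iso.refl _) (Iso.refl _) eU
      (by simp) (by simp) (by simp) (by simp)
  exact FibDimLib.localDim_of_isPullback_field (f ≫ eU.hom) h w

variable [LocallyOfFiniteType G.t]

include eU in
theorem localDim_eq (z : G.R) (p : G.U) : FlatMor.localDim ↥G.R z = FlatMor.localDim ↥G.R (G.e p) := by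
  haveI := subsingleton_U G k eU
  obtain ⟨K, _, _, r, hr⟩ := exists_geomPoint z
  let q : Spec (CommRingCat.of K) := IsLocalRing.closedPoint K
  let v := translIso G r
  have e1 : pullback.fst G.t (r ≫ G.t) (v.hom (eX G (r ≫ G.s) q)) = z := by
    rw [← Scheme.Hom.comp_apply, ← Scheme.Hom.comp_apply, show v.hom = transl G r from rfl, eX_transl]
    exact hr q
  have e2 : pullback.fst G.t (r ≫ G.s) (eX G (r ≫ G.s) q) = G.e p := by
    rw [← Scheme.Hom.comp_apply, eX, pullback.lift_fst, Scheme.Hom.comp_apply, Subsingleton.elim ((r ≫ G.s) q) p]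
  rw [← e1, ← e2, ← localDim_fst G eU G.t (r ≫ G.t), ← localDim_fst G eU G.t (r ≫ G.s)]
  exact FibDimLib.localDim_eq_of_isOpenEmbedding v.hom.isOpenEmbedding _

include eU in
theorem localDim_eq_dim (z : G.R) : FlatMor.localDim ↥G.R z = topologicalKrullDim ↥G.R := by
  let p := eU.inv (IsLocalRing.closedPoint k)
  haveI : Nonempty ↥G.R := ⟨z⟩
  rw [FibDimLib.topologicalKrullDim_eq_iSup_localDim, localDim_eq G eU z p]
  simp only [localDim_eq G eU _ p, ciSup_const]

include eU in
theorem dim_component {Z : Set G.R} (hZ : Z ∈ irreducibleComponents ↥G.R) :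
    topologicalKrullDim ↥Z = topologicalKrullDim ↥G.R := by
  obtain ⟨z, -, hz⟩ := FibDimLib.exists_generic_of_component (G.t ≫ eU.hom) hZ
  rw [← hz, localDim_eq_dim G eU z]

section Stab

variable {K : Type u} [Field K] [IsAlgClosed K] (x : Spec (CommRingCat.of K) ⟶ G.U)

include eU in
/-- on an irreducible reduced piece through the identity the source is the constant one -/
theorem comp_fst_s {Z : Scheme.{u}} [IsIntegral Z] (i₀ : Z ⟶ pullback G.t x) [IsClosedImmersion i₀]
    (he : ∀ q, eX G x q ∈ Set.range i₀) :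
    i₀ ≫ pullback.fst G.t x ≫ G.s = i₀ ≫ pullback.snd G.t x ≫ x := by
  haveI := subsingleton_field K
  haveI : Surjective (pullback.snd i₀ (eX G x)) := ⟨fun q => by
    have h : q ∈ Set.range (pullback.snd i₀ (eX G x)) := by rw [Scheme.Pullback.range_snd]; exact he q
    exact h⟩
  haveI := isIso_of_isClosedImmersion_of_surjective (pullback.snd i₀ (eX G x))
  obtain ⟨v, hv⟩ : ∃ v : Spec (CommRingCat.of K) ⟶ Z, v ≫ i₀ = eX G x :=
    ⟨inv (pullback.snd i₀ (eX G x)) ≫ pullback.fst i₀ (eX G x), by
      rw [Category.assoc, pullback.condition, IsIso.inv_hom_id_assoc]⟩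
  obtain ⟨W, hW, hvW, -⟩ := exists_isAffineOpen_mem_and_subset (X := Z)
    (x := v (IsLocalRing.closedPoint K)) (U := ⊤) trivial
  haveI : Nonempty ↥(W : Scheme.{u}) := ⟨⟨_, hvW⟩⟩
  haveI : IsAffine G.U := IsAffine.of_isIso eU.hom
  haveI : IsDominant W.ι := ⟨by
    show DenseRange W.ι
    rw [DenseRange, Scheme.Opens.range_ι]
    exact W.2.dense ⟨_, hvW⟩⟩
  refine ext_of_isDominant W.ι ?_
  rw [← cancel_mono eU.hom]
  let str := W.ι ≫ i₀ ≫ pullback.snd G.t x
  obtain ⟨ρ, hρ⟩ := Spec.map_surjective (hW.isoSpec.inv ≫ str)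
  letI := ρ.hom.toAlgebra
  haveI : Algebra.FiniteType K Γ(Z, W) := RingHom.finiteType_algebraMap.mp
    ((HasRingHomProperty.Spec_iff (P := @LocallyOfFiniteType)).mp
      (hρ ▸ (inferInstance : LocallyOfFiniteType (hW.isoSpec.inv ≫ str))))
  haveI : IsDomain Γ(Z, W) := inferInstance
  obtain ⟨v', hv'⟩ : ∃ v' : Spec (CommRingCat.of K) ⟶ Spec Γ(Z, W), v' ≫ hW.isoSpec.inv ≫ W.ι = v := by
    have hrange : Set.range v ⊆ Set.range W.ι := by
      rintro _ ⟨q, rfl⟩
      rw [Scheme.Opens.range_ι, Subsingleton.elim q (IsLocalRing.closedPoint K)]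
      exact hvW
    exact ⟨IsOpenImmersion.lift W.ι v hrange ≫ hW.isoSpec.hom, by
      rw [Category.assoc, Iso.hom_inv_id_assoc, IsOpenImmersion.lift_fac]⟩
  have key : ∀ h : (W : Scheme.{u}) ⟶ Spec (CommRingCat.of k),
      ∃ σ : CommRingCat.of k ⟶ CommRingCat.of K, hW.isoSpec.inv ≫ h = Spec.map ρ ≫ Spec.map σ := fun h => by
    obtain ⟨g, hg⟩ := Spec.map_surjective (hW.isoSpec.inv ≫ h)
    choose σ₀ hσ₀ using fun f => mem_range_algebraMap_of_field (K := K) g.hom f
    have hinj := (algebraMap K Γ(Z, W)).injective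
    let σ : k →+* K :=
      { toFun := σ₀
        map_one' := hinj (by rw [hσ₀, map_one, map_one])
        map_mul' := fun a b => hinj (by rw [hσ₀, map_mul, map_mul, hσ₀, hσ₀])
        map_zero' := hinj (by rw [hσ₀, map_zero, map_zero])
        map_add' := fun a b => hinj (by rw [hσ₀, map_add, map_add, hσ₀, hσ₀]) }
    refine ⟨CommRingCat.ofHom σ, hg.symm.trans ?_⟩
    rw [← Spec.map_comp]
    refine congrArg Spec.map (CommRingCat.hom_ext (RingHom.ext fun f => ?_))
    exact (hσ₀ f).symm
  have hsec : v' ≫ Spec.map ρ = 𝟙 _ := by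
    rw [hρ]
    simp only [str]
    rw [reassoc_of% hv', reassoc_of% hv, eX, pullback.lift_snd]
  have hdet : ∀ h : (W : Scheme.{u}) ⟶ Spec (CommRingCat.of k),
      hW.isoSpec.inv ≫ h = Spec.map ρ ≫ v' ≫ hW.isoSpec.inv ≫ h := fun h => by
    obtain ⟨σ, hσ⟩ := key h
    rw [hσ, reassoc_of% hsec]
  rw [← cancel_epi hW.isoSpec.inv, hdet]
  conv_rhs => rw [hdet]
  congr 1
  simp only [Category.assoc]
  rw [reassoc_of% hv', reassoc_of% hv', reassoc_of% hv, reassoc_of% hv, eX, pullback.lift_fst_assoc,
    pullback.lift_snd_assoc, Category.assoc, reassoc_of% G.e_s, Category.id_comp]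

end Stab

include eU in
theorem dim_eq_dim_stabilizer : topologicalKrullDim ↥G.R = topologicalKrullDim ↥G.stabilizer := by
  haveI := subsingleton_U G k eU
  haveI : IsImmersion G.diag := inferInstanceAs (IsImmersion (pullback.diagonal G.pU))
  haveI : IsImmersion (pullback.fst G.j G.diag) := inferInstance
  refine le_antisymm ?_ ((pullback.fst G.j G.diag).isEmbedding.isInducing.topologicalKrullDim_le)
  let p := eU.inv (IsLocalRing.closedPoint k)
  let t₀ : Spec (CommRingCat.of (AlgebraicClosure k)) ⟶ Spec (CommRingCat.of k) :=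
    Spec.map (CommRingCat.ofHom (algebraMap k (AlgebraicClosure k)))
  let x : Spec (CommRingCat.of (AlgebraicClosure k)) ⟶ G.U := t₀ ≫ eU.inv
  haveI := subsingleton_field (AlgebraicClosure k)
  let q : Spec (CommRingCat.of (AlgebraicClosure k)) := IsLocalRing.closedPoint (AlgebraicClosure k)
  obtain ⟨θ, hθ, hθe⟩ := exists_isMax_specializes (eX G x q)
  obtain ⟨Z, i₀, hi₀, hZ, hr⟩ :=
    DevissLib.exists_integral_closed (isClosed_closure (s := {θ})) isIrreducible_singleton.closure
  haveI := hi₀
  haveI := hZ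
  have hs := comp_fst_s G eU x i₀ (fun q' => hr ▸ Subsingleton.elim q q' ▸ hθe.mem_closure)
  have hd : topologicalKrullDim ↥G.R = topologicalKrullDim ↥Z := by
    rw [← localDim_eq_dim G eU (pullback.fst G.t x θ), ← localDim_fst G eU G.t x θ,
      FibDimLib.localDim_eq_of_generic (k := AlgebraicClosure k) (pullback.snd G.t x)
        (FibDimLib.closure_mem_irreducibleComponents_of_max fun z hz => hθ z hz)]
    exact (IsHomeomorph.topologicalKrullDim_eq _
      (i₀.isEmbedding.toHomeomorph.trans (Homeomorph.setCongr hr)).isHomeomorph).symm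
  let f : G.stabilizer ⟶ G.U := pullback.snd G.j G.diag
  haveI : LocallyOfFiniteType f := by
    have h : f = pullback.fst G.j G.diag ≫ G.t := by
      calc f = f ≫ G.diag ≫ pullback.fst G.pU G.pU := by rw [diag_fst, Category.comp_id]
        _ = pullback.fst G.j G.diag ≫ G.j ≫ pullback.fst G.pU G.pU := by
            simp only [f]; rw [pullback.condition_assoc]
        _ = _ := by rw [j_t]
    rw [h]
    infer_instance
  let a : Z ⟶ G.stabilizer := pullback.lift (i₀ ≫ pullback.fst G.t x) (i₀ ≫ pullback.snd G.t x ≫ x) (by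
    apply pullback.hom_ext
    · simp only [Category.assoc, j_t, diag_fst, Category.comp_id, pullback.condition]
    · simp only [Category.assoc, j_s, diag_snd, Category.comp_id, hs])
  let m : Z ⟶ pullback f x := pullback.lift a (i₀ ≫ pullback.snd G.t x)
    (by simp only [a, f]; rw [pullback.lift_snd, Category.assoc])
  let b : pullback f x ⟶ pullback G.t x :=
    pullback.lift (pullback.fst f x ≫ pullback.fst G.j G.diag) (pullback.snd f x) (by
      rw [← j_t G, Category.assoc, pullback.condition_assoc, diag_fst, Category.comp_id, ← pullback.condition])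
  have hmb : m ≫ b = i₀ := by
    apply pullback.hom_ext
    · simp only [m, b, a, Category.assoc, pullback.lift_fst, pullback.lift_fst_assoc]
    · simp only [m, b, Category.assoc, pullback.lift_snd]
  have hm : Topology.IsEmbedding m := by
    refine Topology.IsEmbedding.of_comp m.continuous b.continuous ?_
    have : (⇑b ∘ ⇑m : Z → _) = ⇑i₀ := by
      funext z
      exact (Scheme.Hom.comp_apply m b z).symm.trans (congrArg (fun φ : Z ⟶ pullback G.t x => φ z) hmb)
    rw [this]
    exact i₀.isEmbedding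
  rw [hd]
  refine hm.isInducing.topologicalKrullDim_le.trans ?_
  rw [FibDimLib.topologicalKrullDim_eq_iSup_localDim]
  exact iSup_le fun w => (localDim_fst G eU f x w).le.trans (FibDimLib.localDim_le _)

end GrpdFieldLib

end
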