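import Groth.Agent.GrpdFieldLib.Uniq

/-!
# Geometric irreducibility of the component through the identity
-/

set_option autoImplicit false
set_option linter.style.haveILetI false
set_option backward.isDefEq.respectTransparency false
universe u
open CategoryTheory CategoryTheory.Limits AlgebraicGeometry
open Groth.Agent.GrpField Groth.Agent.HomogDense

noncomputable section

namespace GrpdFieldLib

variable {S : Scheme.{u}} (G : Grpd.GroupoidScheme S) {k : Type u} [Field k]
  (eU : G.U ≅ Spec (CommRingCat.of k))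

theorem isPullback_eX {K : Type u} [Field K] (x : Spec (CommRingCat.of K) ⟶ G.U) :
    IsPullback (eX G x) x (pullback.fst G.t x) G.e := by
  have hr : IsPullback (pullback.snd G.t x) (pullback.fst G.t x) x G.t :=
    (IsPullback.of_hasPullback G.t x).flip
  have ho : IsPullback (eX G x ≫ pullback.snd G.t x) x x (G.e ≫ G.t) := by
    rw [eX, pullback.lift_snd, G.e_t]
    exact IsPullback.of_horiz_isIso ⟨by rw [Category.id_comp, Category.comp_id]⟩
  exact IsPullback.of_right ho (pullback.lift_fst _ _ _) hr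

include eU in
theorem geometricallyIrreducible_t {Z : Scheme.{u}} (ι₀ : Z ⟶ G.R) [IsClosedImmersion ι₀] [IrreducibleSpace Z]
    (hZ : Set.range ⇑ι₀ ∈ irreducibleComponents ↥G.R) (p : G.U) (he : G.e p ∈ Set.range ⇑ι₀) :
    GeometricallyIrreducible (ι₀ ≫ G.t ≫ eU.hom) := by
  let t₀ : Spec (CommRingCat.of (AlgebraicClosure k)) ⟶ Spec (CommRingCat.of k) :=
    Spec.map (CommRingCat.ofHom (algebraMap k (AlgebraicClosure k)))
  haveI := subsingleton_U G k eU
  let x : Spec (CommRingCat.of (AlgebraicClosure k)) ⟶ G.U := t₀ ≫ eU.inv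
  haveI : IsIntegralHom t₀ := IsIntegralHom.SpecMap_iff.2 (algebraMap_isIntegral_iff.2 inferInstance)
  haveI : IsIntegralHom x := inferInstance
  haveI : Flat x := flat_to_U G eU x
  let q : Spec (CommRingCat.of (AlgebraicClosure k)) := IsLocalRing.closedPoint (AlgebraicClosure k)
  haveI := subsingleton_field (AlgebraicClosure k)
  obtain ⟨θ, hθ, hθe⟩ := exists_isMax_specializes (eX G x q)
  have hex : pullback.fst G.t x (eX G x q) = G.e p := by
    rw [← Scheme.Hom.comp_apply, eX, pullback.lift_fst, Scheme.Hom.comp_apply, Subsingleton.elim (x q) p]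
  have hirrY : IsIrreducible (Set.range ι₀) := hZ.1
  have hgen := hirrY.isGenericPoint_genericPoint (isClosed_of_mem_irreducibleComponents _ hZ)
  have hζ : IsMaxPt hirrY.genericPoint := fun z hz => by
    have h1 : Set.range ι₀ ⊆ closure {z} := by
      rw [← hgen.def]; exact closure_minimal (Set.singleton_subset_iff.2 hz.mem_closure) isClosed_closure
    exact ((hgen.specializes (hZ.2 isIrreducible_singleton.closure h1 (subset_closure rfl))).antisymm hz).eq.symm
  have hpre : pullback.fst G.t x ⁻¹' Set.range ι₀ = closure {θ} := by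
    refine subset_antisymm (fun w hw => ?_) (closure_minimal (Set.singleton_subset_iff.2 ?_) ?_)
    · obtain ⟨θ', hθ', hθw⟩ := exists_isMax_specializes w
      have h1 : pullback.fst G.t x θ' = hirrY.genericPoint :=
        uniqAt_grpd G eU _ _ _ (isMax_map _ hθ') hζ (hθw.map (pullback.fst G.t x).continuous) (hgen.specializes hw)
      have h2 : G.e p ∈ pullback.fst G.t x '' closure {θ'} := by
        have hc : IsClosed (pullback.fst G.t x '' closure {θ'}) :=
          (pullback.fst G.t x).isClosedMap _ isClosed_closure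
        have hmem : hirrY.genericPoint ∈ pullback.fst G.t x '' closure {θ'} := ⟨θ', subset_closure rfl, h1⟩
        have h3 := closure_minimal (Set.singleton_subset_iff.2 hmem) hc
        rw [hgen.def] at h3
        exact h3 he
      obtain ⟨v, hv, hve⟩ := h2
      obtain ⟨q', hq', -⟩ := Scheme.exists_preimage_of_isPullback (isPullback_eX G x) v p hve
      rw [← hq', Subsingleton.elim q' q] at hv
      rw [uniqAt_eX G eU x q θ' θ hθ' hθ (specializes_iff_mem_closure.2 hv) hθe] at hθw
      exact hθw.mem_closure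
    · have h1 := uniqAt_grpd G eU _ _ _ (isMax_map (pullback.fst G.t x) hθ) hζ
        (hex ▸ hθe.map (pullback.fst G.t x).continuous) (hgen.specializes he)
      rw [Set.mem_preimage, h1]
      exact hgen.mem
    · exact (isClosed_of_mem_irreducibleComponents _ hZ).preimage (pullback.fst G.t x).continuous
  let n := pullback.snd ι₀ (pullback.fst G.t x)
  haveI : IsClosedImmersion n := MorphismProperty.pullback_snd _ _ inferInstance
  have hn : Set.range n = closure {θ} := by
    simp only [n, Scheme.Pullback.range_snd]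
    exact hpre
  haveI : IrreducibleSpace ↥(pullback (ι₀ ≫ G.t ≫ eU.hom) t₀) := by
    haveI : IrreducibleSpace ↥(Set.range n) :=
      Subtype.irreducibleSpace (hn ▸ isIrreducible_singleton.closure)
    have h2 := n.isClosedEmbedding.isEmbedding.toHomeomorph.irreducibleSpace_iff.2 this
    have h3 := (Scheme.homeoOfIso (pullbackRightPullbackFstIso G.t x ι₀)).irreducibleSpace_iff.1 h2
    let m : pullback (ι₀ ≫ G.t) x ⟶ pullback (ι₀ ≫ G.t ≫ eU.hom) t₀ :=
      pullback.map _ _ _ _ (𝟙 Z) (𝟙 _) eU.hom (by simp) (by simp [x])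
    exact (Scheme.homeoOfIso (asIso m)).irreducibleSpace_iff.1 h3
  haveI : GeometricallyIrreducible (pullback.snd (ι₀ ≫ G.t ≫ eU.hom) t₀) := gi_of_irreducible_algClosed _
  exact SweepSix.GeomConn.gi_of_bc (ι₀ ≫ G.t ≫ eU.hom) (AlgebraicClosure k)

include eU in
theorem geometricallyIrreducible_s {Z : Scheme.{u}} (ι₀ : Z ⟶ G.R) [IsClosedImmersion ι₀] [IrreducibleSpace Z]
    (hZ : Set.range ⇑ι₀ ∈ irreducibleComponents ↥G.R) (p : G.U) (he : G.e p ∈ Set.range ⇑ι₀) :
    GeometricallyIrreducible (ι₀ ≫ G.s ≫ eU.hom) := by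
  haveI := subsingleton_U G k eU
  haveI : IsIso G.i := ⟨G.i, GrpdLib.i_i G, GrpdLib.i_i G⟩
  have h : ι₀ ≫ G.s ≫ eU.hom = (ι₀ ≫ G.i) ≫ G.t ≫ eU.hom := by rw [Category.assoc, reassoc_of% G.i_t]
  rw [h]
  refine geometricallyIrreducible_t G eU (ι₀ ≫ G.i) ?_ p ?_
  · rw [Scheme.Hom.comp_base, TopCat.coe_comp, Set.range_comp]
    let φ := G.i.homeomorph
    refine ⟨hZ.1.image _ G.i.continuous.continuousOn, fun V hV hle => ?_⟩
    have h1 : φ.symm '' V ≤ Set.range ι₀ := hZ.2 (hV.image _ φ.symm.continuous.continuousOn) (fun y hy =>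
      ⟨φ y, hle ⟨y, hy, rfl⟩, φ.symm_apply_apply y⟩)
    exact fun v hv => ⟨φ.symm v, h1 ⟨v, hv, rfl⟩, φ.apply_symm_apply v⟩
  · obtain ⟨z, hz⟩ := he
    exact ⟨z, by rw [Scheme.Hom.comp_apply, hz, ← Scheme.Hom.comp_apply, e_i]⟩

end GrpdFieldLib

end
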