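import Groth.Agent.GrpdFieldLib.ClosedSub

/-!
# Translations in groupoids over fields; images of homomorphisms
-/

set_option autoImplicit false
set_option linter.style.haveILetI false
set_option backward.isDefEq.respectTransparency false
universe u
open CategoryTheory CategoryTheory.Limits AlgebraicGeometry
open ConormalSecLib (cmp_congr comp_cmp)

noncomputable section

namespace GrpdFieldLib

variable {S : Scheme.{u}} (G : Grpd.GroupoidScheme S)

/-- `(a, b) ↦ (a, ab)` -/
def mulS : pullback G.s G.t ⟶ pullback G.t G.t :=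
  pullback.lift (pullback.fst G.s G.t) (ConormalSecLib.cmp G (pullback.fst G.s G.t) (pullback.snd G.s G.t) pullback.condition)
    (G.comp_t _ _ _).symm

theorem divT_cond : (pullback.fst G.t G.t ≫ G.i) ≫ G.s = pullback.snd G.t G.t ≫ G.t := by
  rw [Category.assoc, G.i_s, pullback.condition]

/-- `(a, b) ↦ (a, a⁻¹b)` -/
def divT : pullback G.t G.t ⟶ pullback G.s G.t :=
  pullback.lift (pullback.fst G.t G.t)
    (ConormalSecLib.cmp G (pullback.fst G.t G.t ≫ G.i) (pullback.snd G.t G.t) (divT_cond G))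
    (by rw [G.comp_t, Category.assoc, G.i_t])

theorem mulS_fst : mulS G ≫ pullback.fst G.t G.t = pullback.fst G.s G.t := pullback.lift_fst _ _ _

theorem mulS_snd : mulS G ≫ pullback.snd G.t G.t = G.c := by
  refine (pullback.lift_snd _ _ _).trans ?_
  have e1 : pullback.lift (pullback.fst G.s G.t) (pullback.snd G.s G.t) pullback.condition = 𝟙 _ := by
    apply pullback.hom_ext <;> simp
  rw [ConormalSecLib.cmp, e1, Category.id_comp]

theorem divT_fst : divT G ≫ pullback.fst G.s G.t = pullback.fst G.t G.t := pullback.lift_fst _ _ _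

theorem divT_mulS : divT G ≫ mulS G = 𝟙 _ := by
  apply pullback.hom_ext
  · rw [Category.assoc, mulS_fst, divT_fst, Category.id_comp]
  · rw [Category.assoc, Category.id_comp, mulS, pullback.lift_snd, comp_cmp]
    refine (cmp_congr G (divT_fst G) (pullback.lift_snd _ _ _)).trans ?_
    exact ConormalSecLib.cmp_cmp_inv_left G _ _ pullback.condition _ _

theorem mulS_divT : mulS G ≫ divT G = 𝟙 _ := by
  apply pullback.hom_ext
  · rw [Category.assoc, divT_fst, mulS_fst, Category.id_comp]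
  · rw [Category.assoc, Category.id_comp, divT, pullback.lift_snd, comp_cmp]
    refine (cmp_congr G (β' := ConormalSecLib.cmp G (pullback.fst G.s G.t) (pullback.snd G.s G.t) pullback.condition)
      (by rw [← Category.assoc, mulS_fst]) (pullback.lift_snd _ _ _)).trans ?_
    exact ConormalSecLib.cmp_inv_cmp_left G _ _ _ _

instance : IsIso (mulS G) := ⟨⟨divT G, mulS_divT G, divT_mulS G⟩⟩

instance : IsIso (divT G) := ⟨⟨mulS G, divT_mulS G, mulS_divT G⟩⟩

variable {k : Type u} [Field k] (eU : G.U ≅ Spec (CommRingCat.of k))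

include eU in
theorem exists_auto_of_rational (r : G.R) (hs : IsIso (G.s.residueFieldMap r)) (ht : IsIso (G.t.residueFieldMap r)) :
    ∃ φ : G.R ≅ G.R, φ.hom (G.e (eU.inv (IsLocalRing.closedPoint k))) = r := by
  haveI : Subsingleton ↥(Spec (CommRingCat.of k)) := inferInstanceAs (Subsingleton (PrimeSpectrum k))
  haveI : Subsingleton ↥G.U := (Scheme.homeoOfIso eU).toEquiv.subsingleton
  haveI : IsReduced G.U :=
    haveI : IsReduced (Spec (CommRingCat.of k)) := inferInstance
    isReduced_of_isOpenImmersion eU.hom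
  have hiso : ∀ (g : G.R ⟶ G.U), IsIso (g.residueFieldMap r) → IsIso (G.R.fromSpecResidueField r ≫ g) := by
    intro g hg
    have hsurj : ∀ u, Set.range (G.U.fromSpecResidueField u) = Set.univ := fun u => by
      rw [Scheme.range_fromSpecResidueField]; exact Set.eq_univ_of_forall fun v => Subsingleton.elim v u
    haveI : IsClosedImmersion (G.U.fromSpecResidueField (g r)) :=
      IsClosedImmersion.of_isPreimmersion _ (by rw [hsurj]; exact isClosed_univ)
    haveI : Surjective (G.U.fromSpecResidueField (g r)) := ⟨Set.range_eq_univ.1 (hsurj _)⟩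
    haveI := isIso_of_isClosedImmersion_of_surjective (G.U.fromSpecResidueField (g r))
    rw [← Scheme.Hom.SpecMap_residueFieldMap_fromSpecResidueField]
    infer_instance
  haveI := hiso G.s hs
  haveI := hiso G.t ht
  let σ : G.U ⟶ G.R := inv (G.R.fromSpecResidueField r ≫ G.s) ≫ G.R.fromSpecResidueField r
  let τ : G.U ⟶ G.U := σ ≫ G.t
  haveI : IsIso τ := by
    show IsIso ((inv (G.R.fromSpecResidueField r ≫ G.s) ≫ G.R.fromSpecResidueField r) ≫ G.t)
    rw [Category.assoc]; infer_instance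
  have hσ : σ ≫ G.s = 𝟙 _ := by simp [σ]
  let σ' : G.U ⟶ G.R := inv τ ≫ σ ≫ G.i
  have hσ' : σ' ≫ G.s = 𝟙 _ := by simp [σ', G.i_s, τ]
  have hσ't : σ' ≫ G.t = inv τ := by simp [σ', G.i_t, hσ]
  let φ : G.R ⟶ G.R := ConormalSecLib.cmp G (G.t ≫ σ) (𝟙 _) (by rw [Category.assoc, hσ, Category.comp_id, Category.id_comp])
  let ψ : G.R ⟶ G.R := ConormalSecLib.cmp G (G.t ≫ σ') (𝟙 _) (by rw [Category.assoc, hσ', Category.comp_id, Category.id_comp])
  have hφt : φ ≫ G.t = G.t ≫ τ := (G.comp_t _ _ _).trans (Category.assoc _ _ _)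
  have hψt : ψ ≫ G.t = G.t ≫ inv τ := (G.comp_t _ _ _).trans ((Category.assoc _ _ _).trans (by rw [hσ't]))
  refine ⟨⟨φ, ψ, ?_, ?_⟩, ?_⟩
  · have hc : ((G.t ≫ σ) ≫ G.i) ≫ G.s = φ ≫ G.t := by rw [Category.assoc, G.i_s, hφt, Category.assoc]
    refine (comp_cmp G φ _ _ _).trans ((cmp_congr G (α' := (G.t ≫ σ) ≫ G.i) ?_ (Category.comp_id φ)).trans
      (ConormalSecLib.cmp_inv_cmp_left G _ _ _ hc))
    rw [← Category.assoc φ G.t σ', hφt]
    simp [σ']
  · have h1 : ψ ≫ G.t ≫ σ = ((G.t ≫ inv τ) ≫ σ) := by rw [← Category.assoc ψ G.t σ, hψt]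
    have e1 : (((G.t ≫ inv τ) ≫ σ) ≫ G.i) = G.t ≫ σ' := by simp [σ']
    have hh : ((G.t ≫ inv τ) ≫ σ) ≫ G.t = 𝟙 G.R ≫ G.t := by simp [τ]
    refine (comp_cmp G ψ _ _ _).trans ((cmp_congr G h1 ((Category.comp_id ψ).trans
      (cmp_congr G (h := by rw [Category.assoc, hσ', Category.comp_id, Category.id_comp]) e1.symm rfl))).trans
      (ConormalSecLib.cmp_cmp_inv_left G _ _ hh (by rw [e1, Category.assoc, hσ', Category.comp_id, Category.id_comp]) ?_))
    rw [G.comp_t, e1, Category.assoc G.t σ' G.t, hσ't]; simp [σ]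
  · have h : G.e ≫ φ = σ := by
      refine (comp_cmp G G.e _ _ _).trans ?_
      refine (cmp_congr G (α' := σ) (β' := (σ ≫ G.s) ≫ G.e) (by rw [← Category.assoc, G.e_t, Category.id_comp])
        (by rw [hσ, Category.comp_id, Category.id_comp])).trans ?_
      exact (cmp_congr G rfl (Category.assoc _ _ _)).trans (G.comp_e σ)
    show φ (G.e _) = r
    rw [← Scheme.Hom.comp_apply, h, Scheme.Hom.comp_apply, Scheme.fromSpecResidueField_apply]

include eU in
theorem isOpen_translate {Z : Scheme.{u}} (a : Z ⟶ G.R) (W : G.R.Opens) :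
    IsOpen (Set.range (pullback.lift (pullback.fst (a ≫ G.s) (W.ι ≫ G.t) ≫ a)
      (pullback.snd (a ≫ G.s) (W.ι ≫ G.t) ≫ W.ι)
      ((Category.assoc _ _ _).trans (pullback.condition.trans (Category.assoc _ _ _).symm)) ≫ G.c)) := by
  let T' := pullback.map (a ≫ G.s) (W.ι ≫ G.t) G.s G.t a W.ι (𝟙 _) (by simp) (by simp)
  rw [show pullback.lift (pullback.fst (a ≫ G.s) (W.ι ≫ G.t) ≫ a)
      (pullback.snd (a ≫ G.s) (W.ι ≫ G.t) ≫ W.ι)
      ((Category.assoc _ _ _).trans (pullback.condition.trans (Category.assoc _ _ _).symm)) = T' from rfl,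
    ← mulS_snd]
  -- the image in `Z ×_U R` (for `t`) is open, and the second projection is open
  let mZ := pullback.map (a ≫ G.s) G.t G.s G.t a (𝟙 _) (𝟙 _) (by simp) (by simp)
  let nZ := pullback.map (a ≫ G.t) G.t G.t G.t a (𝟙 _) (𝟙 _) (by simp) (by simp)
  have sq1 : IsPullback (pullback.fst (a ≫ G.s) G.t) mZ a (pullback.fst G.s G.t) := by
    refine IsPullback.of_bot ?_ (pullback.lift_fst _ _ _).symm (IsPullback.of_hasPullback G.s G.t)
    rw [show mZ ≫ pullback.snd G.s G.t = pullback.snd (a ≫ G.s) G.t from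
      (pullback.lift_snd _ _ _).trans (Category.comp_id _)]
    exact IsPullback.of_hasPullback (a ≫ G.s) G.t
  have sq2 : IsPullback (pullback.fst (a ≫ G.t) G.t) nZ a (pullback.fst G.t G.t) := by
    refine IsPullback.of_bot ?_ (pullback.lift_fst _ _ _).symm (IsPullback.of_hasPullback G.t G.t)
    rw [show nZ ≫ pullback.snd G.t G.t = pullback.snd (a ≫ G.t) G.t from
      (pullback.lift_snd _ _ _).trans (Category.comp_id _)]
    exact IsPullback.of_hasPullback (a ≫ G.t) G.t
  have sq3 : IsPullback (pullback.fst (a ≫ G.s) G.t) (mZ ≫ mulS G) a (pullback.fst G.t G.t) :=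
    sq1.paste_vert (IsPullback.of_vert_isIso ⟨by rw [mulS_fst, Category.comp_id]⟩)
  let e := sq3.isoIsPullback _ _ sq2
  let jW := pullback.map (a ≫ G.s) (W.ι ≫ G.t) (a ≫ G.s) G.t (𝟙 _) W.ι (𝟙 _) (by simp) (by simp)
  haveI : IsOpenImmersion jW := inferInstance
  have hT : T' = jW ≫ mZ := by
    apply pullback.hom_ext <;> simp [T', jW, mZ]
  have heq : T' ≫ mulS G ≫ pullback.snd G.t G.t = jW ≫ e.hom ≫ pullback.snd (a ≫ G.t) G.t := by
    rw [hT, show pullback.snd (a ≫ G.t) G.t = nZ ≫ pullback.snd G.t G.t from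
      ((pullback.lift_snd _ _ _).trans (Category.comp_id _)).symm,
      IsPullback.isoIsPullback_hom_snd_assoc]
    simp only [Category.assoc]
  rw [heq]
  haveI := universallyOpen_to eU (a ≫ G.t)
  haveI : UniversallyOpen (pullback.snd (a ≫ G.t) G.t) := MorphismProperty.pullback_snd _ _ inferInstance
  exact (jW ≫ e.hom ≫ pullback.snd (a ≫ G.t) G.t).isOpenMap.isOpen_range

variable {G} {G₁ : Grpd.GroupoidScheme S} (f : Grpd.GroupoidScheme.Hom G₁ G) [IsIso f.fU]

theorem comp_mem_range (p : ↑(pullback G.s G.t)) (h₁ : pullback.fst G.s G.t p ∈ Set.range f.fR)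
    (h₂ : pullback.snd G.s G.t p ∈ Set.range f.fR) : G.c p ∈ Set.range f.fR := by
  let m : pullback G₁.s G₁.t ⟶ pullback G.s G.t :=
    pullback.map _ _ _ _ f.fR f.fR f.fU f.comm_s.symm f.comm_t.symm
  obtain ⟨w, hw⟩ : p ∈ Set.range m := (Scheme.Pullback.range_map _ _ _ _ _ _ _ _ _).ge ⟨h₁, h₂⟩
  refine ⟨G₁.c w, ?_⟩
  have h := cmp_map f (pullback.fst G₁.s G₁.t) (pullback.snd G₁.s G₁.t) pullback.condition
  have e1 : pullback.lift (pullback.fst G₁.s G₁.t) (pullback.snd G₁.s G₁.t) pullback.condition = 𝟙 _ := by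
    apply pullback.hom_ext <;> simp
  rw [ConormalSecLib.cmp, e1, Category.id_comp] at h
  rw [← Scheme.Hom.comp_apply, h, ← hw, ← Scheme.Hom.comp_apply]

omit [IsIso f.fU] in
theorem inv_mem_closure {x : G.R} (h : x ∈ closure (Set.range f.fR)) : G.i x ∈ closure (Set.range f.fR) := by
  refine map_mem_closure G.i.continuous h ?_
  rintro _ ⟨w, rfl⟩
  exact ⟨G₁.i w, by rw [← Scheme.Hom.comp_apply, hom_i, Scheme.Hom.comp_apply]⟩

include eU in
theorem isClosed_range_of_isLocallyClosed (hlc : IsLocallyClosed (Set.range f.fR)) :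
    IsClosed (Set.range f.fR) := by
  haveI : Subsingleton ↥(Spec (CommRingCat.of k)) := inferInstanceAs (Subsingleton (PrimeSpectrum k))
  haveI : Subsingleton ↥G.U := (Scheme.homeoOfIso eU).toEquiv.subsingleton
  obtain ⟨V, C, hV, hC, hE⟩ := hlc
  have hVC : ∀ x ∈ closure (Set.range f.fR), x ∈ V → x ∈ Set.range f.fR := fun x hx hxV =>
    hE.ge ⟨hxV, closure_minimal (hE.le.trans Set.inter_subset_right) hC hx⟩
  rw [← closure_eq_iff_isClosed]
  refine subset_antisymm (fun z hz => ?_) subset_closure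
  let a := G.R.fromSpecResidueField z
  have hra : Set.range a = {z} := Scheme.range_fromSpecResidueField _
  -- a point over `(z, e)`
  let u := G.t z
  obtain ⟨q, hq₁, hq₂⟩ := Scheme.Pullback.exists_preimage_pullback (f := G.t) (g := G.t) z (G.e u)
    (Subsingleton.elim _ _)
  have hqE : pullback.snd G.t G.t q ∈ Set.range f.fR := by
    rw [hq₂]
    exact ⟨G₁.e (inv f.fU u), by rw [← Scheme.Hom.comp_apply, hom_e, ← Scheme.Hom.comp_apply, IsIso.inv_hom_id_assoc]⟩
  -- transport to the composable pairs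
  let p := divT G q
  have hp₁ : pullback.fst G.s G.t p = z := by rw [← Scheme.Hom.comp_apply, divT_fst, hq₁]
  have hp₂ : pullback.snd G.s G.t p ∈ closure (Set.range f.fR) := by
    let Φ : pullback G.t G.t ⟶ pullback G.s G.t :=
      pullback.lift (pullback.fst G.t G.t ≫ G.i) (pullback.snd G.t G.t) (divT_cond G)
    have hΦ : divT G ≫ pullback.snd G.s G.t = Φ ≫ G.c := pullback.lift_snd _ _ _
    rw [← Scheme.Hom.comp_apply, hΦ, Scheme.Hom.comp_apply]
    refine comp_mem_closure f eU _ ?_ ?_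
    · rw [← Scheme.Hom.comp_apply, pullback.lift_fst, Scheme.Hom.comp_apply, hq₁]
      exact inv_mem_closure f hz
    · rw [← Scheme.Hom.comp_apply, pullback.lift_snd]
      exact subset_closure hqE
  have hcl := closure_right eU G.s G.t (Set.range f.fR) a ⟨hra.ge hp₁, hp₂⟩
  have hO : IsOpen ((fun p => pullback.snd G.t G.t (mulS G p)) ⁻¹' V) :=
    hV.preimage ((pullback.snd G.t G.t).continuous.comp (mulS G).continuous)
  have hpV : pullback.snd G.t G.t (mulS G p) ∈ V := by
    rw [show mulS G p = q by rw [← Scheme.Hom.comp_apply, divT_mulS]; rfl]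
    exact (hE.le hqE).1
  obtain ⟨p', hp'V, hp'z, hp'E⟩ := mem_closure_iff.1 hcl _ hO hpV
  have hp'z' : pullback.fst G.s G.t p' = z := hra.le hp'z
  have hc : G.c p' ∈ Set.range f.fR := by
    refine hVC _ (comp_mem_closure f eU p' (hp'z' ▸ hz) (subset_closure hp'E)) ?_
    rw [← mulS_snd, Scheme.Hom.comp_apply]
    exact hp'V
  let Ψ : pullback G.s G.t ⟶ pullback G.s G.t :=
    pullback.lift G.c (pullback.snd G.s G.t ≫ G.i) (by
      have := G.comp_s (pullback.fst G.s G.t) (pullback.snd G.s G.t) pullback.condition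
      have e1 : pullback.lift (pullback.fst G.s G.t) (pullback.snd G.s G.t) pullback.condition = 𝟙 _ := by
        apply pullback.hom_ext <;> simp
      rw [e1, Category.id_comp] at this
      rw [this, Category.assoc, G.i_t])
  have hΨ : Ψ ≫ G.c = pullback.fst G.s G.t := by
    have e1 : pullback.lift (pullback.fst G.s G.t) (pullback.snd G.s G.t) pullback.condition = 𝟙 _ := by
      apply pullback.hom_ext <;> simp
    have hcc : ConormalSecLib.cmp G (pullback.fst G.s G.t) (pullback.snd G.s G.t) pullback.condition = G.c := by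
      rw [ConormalSecLib.cmp, e1, Category.id_comp]
    refine (cmp_congr G hcc.symm rfl).trans ?_
    have h' : pullback.snd G.s G.t ≫ G.s = (pullback.snd G.s G.t ≫ G.i) ≫ G.t := by rw [Category.assoc, G.i_t]
    refine (G.assoc _ _ _ pullback.condition h').trans ?_
    refine (cmp_congr G rfl (G.comp_i _)).trans ?_
    refine Eq.trans ?_ (G.comp_e (pullback.fst G.s G.t))
    exact cmp_congr G rfl (by rw [← Category.assoc, ← pullback.condition, Category.assoc])
  rw [← hp'z', ← hΨ, Scheme.Hom.comp_apply]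
  refine comp_mem_range f _ ?_ ?_
  · rw [← Scheme.Hom.comp_apply, pullback.lift_fst]; exact hc
  · rw [← Scheme.Hom.comp_apply, pullback.lift_snd, Scheme.Hom.comp_apply]
    obtain ⟨w, hw⟩ := hp'E
    exact ⟨G₁.i w, by rw [← Scheme.Hom.comp_apply, hom_i, Scheme.Hom.comp_apply, hw]⟩

end GrpdFieldLib

end
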