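import Groth.Agent.GrpdFieldLib.ClosedSub

/-!
# The groupoid of pairs and the morphism `(t, s)`
-/

set_option autoImplicit false
set_option linter.style.haveILetI false
set_option backward.isDefEq.respectTransparency false
universe u
open CategoryTheory CategoryTheory.Limits AlgebraicGeometry

noncomputable section

namespace GrpdFieldLib

variable {S : Scheme.{u}} {U : Scheme.{u}} (pU : U ⟶ S)

/-- composition of pairs -/
def pairC : pullback (pullback.snd pU pU) (pullback.fst pU pU) ⟶ pullback pU pU :=
  pullback.lift (pullback.fst _ _ ≫ pullback.fst pU pU) (pullback.snd _ _ ≫ pullback.snd pU pU) (by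
    rw [Category.assoc, Category.assoc, pullback.condition, pullback.condition_assoc, pullback.condition])

theorem pairC_fst {T : Scheme.{u}} (α β : T ⟶ pullback pU pU)
    (h : α ≫ pullback.snd pU pU = β ≫ pullback.fst pU pU) :
    (pullback.lift α β h ≫ pairC pU) ≫ pullback.fst pU pU = α ≫ pullback.fst pU pU := by
  rw [pairC, Category.assoc, pullback.lift_fst, pullback.lift_fst_assoc]

theorem pairC_snd {T : Scheme.{u}} (α β : T ⟶ pullback pU pU)
    (h : α ≫ pullback.snd pU pU = β ≫ pullback.fst pU pU) :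
    (pullback.lift α β h ≫ pairC pU) ≫ pullback.snd pU pU = β ≫ pullback.snd pU pU := by
  rw [pairC, Category.assoc, pullback.lift_snd, pullback.lift_snd_assoc]

/-- the groupoid of pairs -/
abbrev pairGrpd : Grpd.GroupoidScheme S where
  U := U
  R := pullback pU pU
  pU := pU
  pR := pullback.fst pU pU ≫ pU
  s := pullback.snd pU pU
  t := pullback.fst pU pU
  e := pullback.lift (𝟙 U) (𝟙 U) rfl
  i := pullback.lift (pullback.snd pU pU) (pullback.fst pU pU) pullback.condition.symm
  c := pairC pU
  s_over := pullback.condition.symm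
  t_over := rfl
  comp_s := fun α β h => pairC_snd pU α β h
  comp_t := fun α β h => pairC_fst pU α β h
  assoc := fun α β γ h₁ h₂ => by
    apply pullback.hom_ext
    · rw [pairC_fst, pairC_fst, pairC_fst]
    · rw [pairC_snd, pairC_snd, pairC_snd]
  e_s := pullback.lift_snd _ _ _
  e_t := pullback.lift_fst _ _ _
  comp_e := fun α => by
    apply pullback.hom_ext
    · rw [pairC_fst]
    · rw [pairC_snd]; simp only [Category.assoc, pullback.lift_snd, Category.comp_id]
  e_comp := fun α => by
    apply pullback.hom_ext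
    · rw [pairC_fst]; simp only [Category.assoc, pullback.lift_fst, Category.comp_id]
    · rw [pairC_snd]
  i_s := pullback.lift_snd _ _ _
  i_t := pullback.lift_fst _ _ _
  comp_i := fun α => by
    apply pullback.hom_ext
    · rw [pairC_fst]; simp only [Category.assoc, pullback.lift_fst, Category.comp_id]
    · rw [pairC_snd]; simp only [Category.assoc, pullback.lift_snd, Category.comp_id]
  i_comp := fun α => by
    apply pullback.hom_ext
    · rw [pairC_fst]; simp only [Category.assoc, pullback.lift_fst, Category.comp_id]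
    · rw [pairC_snd]; simp only [Category.assoc, pullback.lift_snd, Category.comp_id]

variable (G : Grpd.GroupoidScheme S)

/-- `(t, s)` as a morphism to the groupoid of pairs -/
def jHom : Grpd.GroupoidScheme.Hom G (pairGrpd G.pU) where
  fU := 𝟙 G.U
  fR := G.j
  fU_over := Category.id_comp _
  comm_s := (j_s G).trans (Category.comp_id _).symm
  comm_t := (j_t G).trans (Category.comp_id _).symm
  comm_c := fun α β h => by
    apply pullback.hom_ext
    · refine Eq.trans ?_ (pairC_fst G.pU _ _ _).symm
      rw [Category.assoc, Category.assoc, j_t, ← Category.assoc, G.comp_t, Category.assoc, j_t]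
    · refine Eq.trans ?_ (pairC_snd G.pU _ _ _).symm
      rw [Category.assoc, Category.assoc, j_s, ← Category.assoc, G.comp_s, Category.assoc, j_s]

instance : IsIso (jHom G).fU := inferInstanceAs (IsIso (𝟙 G.U))

variable {k : Type u} [Field k] (eU : G.U ≅ Spec (CommRingCat.of k))

include eU in
theorem pr02_mem_closure (pr02 : pullback (pullback.snd G.pU G.pU) (pullback.fst G.pU G.pU) ⟶ pullback G.pU G.pU)
    (h0 : pr02 ≫ pullback.fst G.pU G.pU =
      pullback.fst (pullback.snd G.pU G.pU) (pullback.fst G.pU G.pU) ≫ pullback.fst G.pU G.pU)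
    (h1 : pr02 ≫ pullback.snd G.pU G.pU =
      pullback.snd (pullback.snd G.pU G.pU) (pullback.fst G.pU G.pU) ≫ pullback.snd G.pU G.pU)
    (p : ↑(pullback (pullback.snd G.pU G.pU) (pullback.fst G.pU G.pU)))
    (h₁ : pullback.fst (pullback.snd G.pU G.pU) (pullback.fst G.pU G.pU) p ∈ closure (Set.range ⇑G.j))
    (h₂ : pullback.snd (pullback.snd G.pU G.pU) (pullback.fst G.pU G.pU) p ∈ closure (Set.range ⇑G.j)) :
    pr02 p ∈ closure (Set.range ⇑G.j) := by
  have h : pr02 = pairC G.pU := by
    apply pullback.hom_ext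
    · rw [h0, pairC, pullback.lift_fst]
    · rw [h1, pairC, pullback.lift_snd]
  rw [h]
  exact comp_mem_closure (jHom G) eU p h₁ h₂

theorem j_comp_map {G' : Grpd.GroupoidScheme S} (ψ : Grpd.GroupoidScheme.Hom G' (pairGrpd G.pU)) :
    G'.j ≫ pullback.map G'.pU G'.pU G.pU G.pU ψ.fU ψ.fU (𝟙 S) ((Category.comp_id _).trans ψ.fU_over.symm)
      ((Category.comp_id _).trans ψ.fU_over.symm) = ψ.fR := by
  apply pullback.hom_ext
  · rw [Category.assoc, pullback.lift_fst, ← Category.assoc, j_t]
    exact ψ.comm_t.symm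
  · rw [Category.assoc, pullback.lift_snd, ← Category.assoc, j_s]
    exact ψ.comm_s.symm

theorem isClosedImmersion_j {G' : Grpd.GroupoidScheme S} (ψ : Grpd.GroupoidScheme.Hom G' (pairGrpd G.pU))
    [IsIso ψ.fU] [h : IsClosedImmersion ψ.fR] : IsClosedImmersion G'.j := by
  rw [← j_comp_map G ψ] at h
  exact (MorphismProperty.cancel_right_of_respectsIso @IsClosedImmersion G'.j _).1 h

include eU in
theorem exists_groupoid_closure_j [PerfectField k] :
    ∃ (G' : Grpd.GroupoidScheme S) (ψ : G'.U ≅ G.U) (hψ : ψ.hom ≫ G.pU = G'.pU),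
      IsReduced G'.R ∧ IsClosedImmersion G'.j ∧
      Set.range ⇑(G'.j ≫ pullback.map G'.pU G'.pU G.pU G.pU ψ.hom ψ.hom (𝟙 S)
        ((Category.comp_id _).trans hψ.symm) ((Category.comp_id _).trans hψ.symm)) =
        closure (Set.range ⇑G.j) := by
  obtain ⟨G', ψ, h1, h2, h3, h4⟩ := exists_closure_groupoid (jHom G) eU
  refine ⟨G', asIso ψ.fU, ψ.fU_over, h3, isClosedImmersion_j G ψ, ?_⟩
  have h5 := j_comp_map G ψ
  simp only [asIso_hom]
  rw [h5]
  exact h4

include eU in
theorem exists_groupoid_image_j [CompactSpace G.R] :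
    ∃ (G' : Grpd.GroupoidScheme S) (φ : Grpd.GroupoidScheme.Hom G G'), IsIso φ.fU ∧ IsClosedImmersion G'.j ∧
      G'.j.ker = (G.j ≫ pullback.map G.pU G.pU G'.pU G'.pU φ.fU φ.fU (𝟙 S)
        ((Category.comp_id _).trans φ.fU_over.symm) ((Category.comp_id _).trans φ.fU_over.symm)).ker := by
  haveI : IsAffine G.U := IsAffine.of_isIso eU.hom
  haveI : QuasiSeparated (G.pU ≫ terminal.from S) := by
    rw [show G.pU ≫ terminal.from S = terminal.from G.U from Subsingleton.elim _ _]; infer_instance
  haveI : QuasiSeparated G.pU := QuasiSeparated.of_comp _ (terminal.from S)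
  haveI : QuasiCompact (G.j ≫ pullback.fst G.pU G.pU) := by
    rw [j_t]
    exact (quasiCompact_iff_compactSpace G.t).2 inferInstance
  haveI : QuasiCompact (jHom G).fR := QuasiCompact.of_comp G.j (pullback.fst G.pU G.pU)
  obtain ⟨G', ψ, φ, h1, h2, h3, h4, h5, h6, h7⟩ := exists_image_groupoid (jHom G) eU
  refine ⟨G', φ, h4, isClosedImmersion_j G ψ, ?_⟩
  have hjm : G.j ≫ pullback.map G.pU G.pU G'.pU G'.pU φ.fU φ.fU (𝟙 S)
      ((Category.comp_id _).trans φ.fU_over.symm) ((Category.comp_id _).trans φ.fU_over.symm) =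
      φ.fR ≫ G'.j := by
    apply pullback.hom_ext
    · rw [Category.assoc, pullback.lift_fst, ← Category.assoc, j_t, Category.assoc, j_t, φ.comm_t]
    · rw [Category.assoc, pullback.lift_snd, ← Category.assoc, j_s, Category.assoc, j_s, φ.comm_s]
  rw [hjm, Scheme.Hom.ker_comp φ.fR, h5, Scheme.IdealSheafData.map_bot]

end GrpdFieldLib

end
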