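import Mathlib

/-!
# Products with spectra of profinite algebras
-/

set_option autoImplicit false
set_option linter.style.haveILetI false
universe u
open CategoryTheory CategoryTheory.Limits AlgebraicGeometry

noncomputable section

namespace GrpdFieldLib

variable (k : Type u) [Field k] (A : Type u) [CommRing A] [Algebra k A]
  (hA : ∀ s : Finset A, ∃ (B : Subalgebra k A) (n : ℕ), (↑s : Set A) ⊆ (B : Set A) ∧ Nonempty (B ≃ₐ[k] (Fin n → k)))

include hA in
theorem exists_idem (a : A) : ∃ e c : A, IsIdempotentElem e ∧ a * e = a ∧ e = a * c := by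
  obtain ⟨B, n, hs, ⟨φ⟩⟩ := hA {a}
  have ha : a ∈ B := hs (by simp)
  classical
  let a' : B := ⟨a, ha⟩
  let e' : B := φ.symm fun j => if φ a' j = 0 then 0 else 1
  let c' : B := φ.symm fun j => (φ a' j)⁻¹
  have h1 : e' * e' = e' := φ.injective (by ext j; simp [e'])
  have h2 : a' * e' = a' := φ.injective (by ext j; simp [e']; tauto)
  have h3 : e' = a' * c' := φ.injective (by
    ext j; simp only [e', c', map_mul, AlgEquiv.apply_symm_apply, Pi.mul_apply]
    split_ifs with h
    · simp [h]
    · rw [mul_inv_cancel₀ h])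
  exact ⟨e', c', congrArg Subtype.val h1, congrArg Subtype.val h2, congrArg Subtype.val h3⟩

include hA in
theorem exists_point_residue (p : PrimeSpectrum A) : ∃ φ : A →ₐ[k] k, RingHom.ker φ.toRingHom = p.asIdeal := by
  haveI : Algebra.IsIntegral k A := ⟨fun a => by
    obtain ⟨B, n, hs, ⟨e⟩⟩ := hA {a}
    have ha : a ∈ B := hs (by simp)
    haveI : Module.Finite k B := Module.Finite.equiv e.symm.toLinearEquiv
    exact (Algebra.IsIntegral.isIntegral (R := k) (⟨a, ha⟩ : B)).map B.val⟩
  have hsurj : Function.Surjective (algebraMap k (A ⧸ p.asIdeal)) := by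
    intro x
    obtain ⟨a, rfl⟩ := Ideal.Quotient.mk_surjective x
    obtain ⟨B, n, hs, ⟨φ⟩⟩ := hA {a}
    have ha : a ∈ B := hs (by simp)
    classical
    have hsum : (∑ j, φ.symm (Pi.single j (1 : k))) = (1 : B) := by
      apply φ.injective
      simp only [map_sum, AlgEquiv.apply_symm_apply, map_one]
      exact Finset.univ_sum_single (1 : Fin n → k)
    obtain ⟨j, hj⟩ : ∃ j, ((φ.symm (Pi.single j (1 : k)) : B) : A) ∉ p.asIdeal := by
      by_contra h
      push Not at h
      refine p.isPrime.ne_top ((Ideal.eq_top_iff_one _).2 ?_)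
      have := congrArg Subtype.val hsum
      rw [AddSubmonoidClass.coe_finset_sum, OneMemClass.coe_one] at this
      rw [← this]
      exact Ideal.sum_mem _ fun j _ => h j
    refine ⟨φ ⟨a, ha⟩ j, ?_⟩
    rw [IsScalarTower.algebraMap_apply k A (A ⧸ p.asIdeal), Ideal.Quotient.algebraMap_eq, Ideal.Quotient.eq]
    refine (p.isPrime.mem_or_mem ?_).resolve_right hj
    have h0 : (algebraMap k B (φ ⟨a, ha⟩ j) - ⟨a, ha⟩) * φ.symm (Pi.single j (1 : k)) = (0 : B) := by
      apply φ.injective
      rw [map_mul, map_sub, AlgEquiv.commutes, AlgEquiv.apply_symm_apply, map_zero]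
      ext i
      rcases eq_or_ne i j with rfl | h <;> simp [*]
    have := congrArg Subtype.val h0
    simp only [MulMemClass.coe_mul, AddSubgroupClass.coe_sub, ZeroMemClass.coe_zero, SubalgebraClass.coe_algebraMap] at this
    rw [this]
    exact zero_mem _
  let e : k ≃ₐ[k] A ⧸ p.asIdeal :=
    AlgEquiv.ofBijective (Algebra.ofId k (A ⧸ p.asIdeal)) ⟨(algebraMap k (A ⧸ p.asIdeal)).injective, hsurj⟩
  refine ⟨e.symm.toAlgHom.comp (Ideal.Quotient.mkₐ k p.asIdeal), ?_⟩
  ext a
  simp [RingHom.mem_ker, Ideal.Quotient.eq_zero_iff_mem]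

variable (X : Scheme.{u}) (f : X ⟶ Spec (CommRingCat.of k))

include hA in
theorem isHomeomorph_prod : IsHomeomorph (fun p : ↑(pullback (Spec.map (CommRingCat.ofHom (algebraMap k A))) f) =>
    (pullback.fst (Spec.map (CommRingCat.ofHom (algebraMap k A))) f p,
      pullback.snd (Spec.map (CommRingCat.ofHom (algebraMap k A))) f p)) := by
  let q := Spec.map (CommRingCat.ofHom (algebraMap k A))
  haveI : Algebra.IsIntegral k A := ⟨fun a => by
    obtain ⟨B, n, hs, ⟨e⟩⟩ := hA {a}
    have ha : a ∈ B := hs (by simp)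
    haveI : Module.Finite k B := Module.Finite.equiv e.symm.toLinearEquiv
    exact (Algebra.IsIntegral.isIntegral (R := k) (⟨a, ha⟩ : B)).map B.val⟩
  haveI : IsIntegralHom q := IsIntegralHom.SpecMap_iff.2 (algebraMap_isIntegral_iff.2 inferInstance)
  haveI : IsIntegralHom (pullback.snd q f) := MorphismProperty.pullback_snd _ _ inferInstance
  haveI : Subsingleton ↥(Spec (CommRingCat.of k)) := inferInstanceAs (Subsingleton (PrimeSpectrum k))
  -- sections over the points of `Spec A`
  have hsec : ∀ p : Spec (CommRingCat.of A), ∃ σ : X ⟶ pullback q f,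
      σ ≫ pullback.snd q f = 𝟙 X ∧ ∀ w, pullback.fst q f w = p → w ∈ Set.range σ := by
    intro p
    obtain ⟨φ, hφ⟩ := exists_point_residue k A hA p
    let P : Spec (CommRingCat.of k) ⟶ Spec (CommRingCat.of A) := Spec.map (CommRingCat.ofHom φ.toRingHom)
    have hP : P ≫ q = 𝟙 _ := by
      rw [← Spec.map_comp, ← CommRingCat.ofHom_comp,
        show φ.toRingHom.comp (algebraMap k A) = RingHom.id k from φ.comp_algebraMap]
      exact Spec.map_id _
    have hPp : ∀ x, P x = p := fun x => PrimeSpectrum.ext (by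
      show Ideal.comap φ.toRingHom (x : PrimeSpectrum k).asIdeal = _
      rw [show (x : PrimeSpectrum k).asIdeal = ⊥ from
        (Ideal.eq_bot_or_top (x : PrimeSpectrum k).asIdeal).resolve_right (x : PrimeSpectrum k).isPrime.ne_top,
        ← RingHom.ker_eq_comap_bot, hφ])
    refine ⟨pullback.lift (f ≫ P) (𝟙 X) (by rw [Category.assoc, hP, Category.comp_id, Category.id_comp]),
      pullback.lift_snd _ _ _, fun w hw => ?_⟩
    let m := pullback.map (P ≫ q) f q f P (𝟙 X) (𝟙 _) (by simp) (by simp)
    obtain ⟨v, rfl⟩ : w ∈ Set.range m := by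
      rw [Scheme.Pullback.range_map]
      exact ⟨⟨IsLocalRing.closedPoint k, (hPp _).trans hw.symm⟩, ⟨_, rfl⟩⟩
    refine ⟨pullback.snd (P ≫ q) f v, ?_⟩
    rw [← Scheme.Hom.comp_apply]
    have h : pullback.snd (P ≫ q) f ≫ pullback.lift (f ≫ P) (𝟙 X)
        (by rw [Category.assoc, hP, Category.comp_id, Category.id_comp]) = m := by
      apply pullback.hom_ext
      · have hfst : pullback.snd (P ≫ q) f ≫ f = pullback.fst (P ≫ q) f := by
          rw [← pullback.condition, hP, Category.comp_id]
        rw [Category.assoc, pullback.lift_fst, ← Category.assoc, hfst]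
        exact (pullback.lift_fst _ _ _).symm
      · rw [Category.assoc, pullback.lift_snd]
        exact (pullback.lift_snd _ _ _).symm
    rw [h]
  rw [isHomeomorph_iff_continuous_isClosedMap_bijective]
  refine ⟨(pullback.fst q f).continuous.prodMk (pullback.snd q f).continuous, ?_, ⟨?_, ?_⟩⟩
  rotate_left
  · intro w w' h
    obtain ⟨σ, hσ, hr⟩ := hsec (pullback.fst q f w)
    obtain ⟨x, rfl⟩ := hr w rfl
    obtain ⟨x', rfl⟩ := hr w' (congrArg Prod.fst h).symm
    have h2 : pullback.snd q f (σ x) = pullback.snd q f (σ x') := congrArg Prod.snd h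
    rw [← Scheme.Hom.comp_apply, ← Scheme.Hom.comp_apply, hσ] at h2
    exact congrArg σ h2
  · rintro ⟨p, x⟩
    obtain ⟨w, hw₁, hw₂⟩ := Scheme.Pullback.exists_preimage_pullback (f := q) (g := f) p x (Subsingleton.elim _ _)
    exact ⟨w, Prod.ext hw₁ hw₂⟩
  · intro C hC
    rw [← isOpen_compl_iff, isOpen_iff_forall_mem_open]
    rintro ⟨p, x⟩ hpx
    let ι := {e : A // IsIdempotentElem e ∧ e ∉ (p : PrimeSpectrum A).asIdeal}
    let V : ι → Set (Spec (CommRingCat.of A)) := fun e => (PrimeSpectrum.basicOpen e.1 : Set (PrimeSpectrum A))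
    have hVc : ∀ e : ι, IsClopen (V e) := fun e =>
      PrimeSpectrum.isClopen_iff.2 ⟨e.1, e.2.1, rfl⟩
    obtain ⟨e, he⟩ : ∃ e : ι, x ∉ pullback.snd q f '' (C ∩ pullback.fst q f ⁻¹' V e) := by
      by_contra h
      push Not at h
      haveI : Nonempty ι := ⟨⟨1, IsIdempotentElem.one, (p : PrimeSpectrum A).isPrime.ne_top ∘ (Ideal.eq_top_iff_one _).2⟩⟩
      haveI : CompactSpace ↥((pullback.snd q f).fiber x) := inferInstance
      let K := (pullback.snd q f).fiberι x
      let t : ι → Set ↥((pullback.snd q f).fiber x) := fun e => K ⁻¹' (C ∩ pullback.fst q f ⁻¹' V e)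
      have htc : ∀ e, IsClosed (t e) := fun e =>
        (hC.inter ((hVc e).1.preimage (pullback.fst q f).continuous)).preimage K.continuous
      have htn : ∀ e, (t e).Nonempty := fun e => by
        obtain ⟨w, hw, hwx⟩ := h e
        obtain ⟨v, rfl⟩ : w ∈ Set.range K := by rw [Scheme.Hom.range_fiberι]; exact hwx
        exact ⟨v, hw⟩
      have hdir : Directed (· ⊇ ·) t := fun e e' => by
        refine ⟨⟨e.1 * e'.1, e.2.1.mul e'.2.1, fun hm => ((p : PrimeSpectrum A).isPrime.mem_or_mem hm).elim e.2.2 e'.2.2⟩, ?_, ?_⟩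
        · exact Set.preimage_mono (Set.inter_subset_inter_right _ (Set.preimage_mono
            (PrimeSpectrum.basicOpen_mul_le_left e.1 e'.1)))
        · exact Set.preimage_mono (Set.inter_subset_inter_right _ (Set.preimage_mono
            (PrimeSpectrum.basicOpen_mul_le_right e.1 e'.1)))
      obtain ⟨v, hv⟩ := IsCompact.nonempty_iInter_of_directed_nonempty_isCompact_isClosed t hdir htn
        (fun e => (htc e).isCompact) htc
      have hfst : pullback.fst q f (K v) = p := by
        refine PrimeSpectrum.ext (le_antisymm ?_ ?_)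
        · intro a ha
          by_contra hap
          obtain ⟨e, c, he, hae, hec⟩ := exists_idem k A hA a
          have hep : e ∉ (p : PrimeSpectrum A).asIdeal := fun h => hap (hae ▸ Ideal.mul_mem_left _ a h)
          exact (Set.mem_iInter.1 hv ⟨e, he, hep⟩).2 (hec ▸ Ideal.mul_mem_right c _ ha)
        · intro a ha
          by_contra hap
          obtain ⟨e, c, he, hae, hec⟩ := exists_idem k A hA a
          have hep : e ∈ (p : PrimeSpectrum A).asIdeal := hec ▸ Ideal.mul_mem_right c _ ha
          have hep' : (1 - e) ∉ (p : PrimeSpectrum A).asIdeal := fun h =>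
            (p : PrimeSpectrum A).isPrime.ne_top ((Ideal.eq_top_iff_one _).2 (by simpa using add_mem h hep))
          refine (Set.mem_iInter.1 hv ⟨1 - e, he.one_sub, hep'⟩).2 ?_
          refine (((pullback.fst q f (K v)) : PrimeSpectrum A).isPrime.mem_or_mem (x := a) ?_).resolve_left hap
          rw [mul_sub, mul_one, hae, sub_self]; exact zero_mem _
      have hsnd : pullback.snd q f (K v) = x := (Scheme.Hom.range_fiberι (pullback.snd q f) x).le ⟨v, rfl⟩
      exact hpx ⟨K v, (Set.mem_iInter.1 hv (Classical.arbitrary ι)).1, Prod.ext hfst hsnd⟩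
    refine ⟨V e ×ˢ (pullback.snd q f '' (C ∩ pullback.fst q f ⁻¹' V e))ᶜ, ?_,
      (hVc e).2.prod ((pullback.snd q f).isClosedMap _ (hC.inter ((hVc e).1.preimage (pullback.fst q f).continuous))).isOpen_compl,
      ⟨e.2.2, he⟩⟩
    rintro ⟨p', x'⟩ ⟨hp', hx'⟩ ⟨w, hw, hwe⟩
    have h1 : pullback.fst q f w = p' := congrArg Prod.fst hwe
    refine hx' ⟨w, ⟨hw, ?_⟩, congrArg Prod.snd hwe⟩
    show pullback.fst q f w ∈ V e
    rw [h1]; exact hp'

end GrpdFieldLib

end
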