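import Groth.Agent.ConormalSecLib.Grpd

/-!
# Restriction of a groupoid along an arbitrary morphism to the objects
-/

set_option autoImplicit false
set_option linter.style.haveILetI false
universe u
open CategoryTheory CategoryTheory.Limits AlgebraicGeometry
open ConormalSecLib (cmp_congr comp_cmp)

noncomputable section

namespace GrpdFieldLib

variable {S : Scheme.{u}} (G : Grpd.GroupoidScheme S) {T : Scheme.{u}} (x : T ⟶ G.U)

/-- arrows of the restriction: `(a, τ, σ)` with `t a = x τ`, `s a = x σ` -/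
abbrev RR : Scheme.{u} := pullback (pullback.fst G.t x ≫ G.s) x

/-- the underlying arrow -/
def rπ : RR G x ⟶ G.R := pullback.fst _ _ ≫ pullback.fst G.t x

/-- the target of the restriction -/
def rt : RR G x ⟶ T := pullback.fst _ _ ≫ pullback.snd G.t x

/-- the source of the restriction -/
abbrev rs' : RR G x ⟶ T := pullback.snd _ _

theorem rπ_t : rπ G x ≫ G.t = rt G x ≫ x := by
  rw [rπ, rt, Category.assoc, pullback.condition, Category.assoc]

theorem rπ_s : rπ G x ≫ G.s = rs' G x ≫ x := by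
  rw [rπ, Category.assoc, pullback.condition]

variable {Z : Scheme.{u}}

/-- points of the restriction -/
def mkPt (a : Z ⟶ G.R) (τ σ : Z ⟶ T) (h₁ : a ≫ G.t = τ ≫ x) (h₂ : a ≫ G.s = σ ≫ x) : Z ⟶ RR G x :=
  pullback.lift (pullback.lift a τ h₁) σ (by rw [pullback.lift_fst_assoc, h₂])

@[simp, reassoc] theorem mkPt_π (a : Z ⟶ G.R) (τ σ : Z ⟶ T) (h₁ h₂) :
    mkPt G x a τ σ h₁ h₂ ≫ rπ G x = a := by
  rw [mkPt, rπ, pullback.lift_fst_assoc, pullback.lift_fst]

@[simp, reassoc] theorem mkPt_t (a : Z ⟶ G.R) (τ σ : Z ⟶ T) (h₁ h₂) :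
    mkPt G x a τ σ h₁ h₂ ≫ rt G x = τ := by
  rw [mkPt, rt, pullback.lift_fst_assoc, pullback.lift_snd]

@[simp, reassoc] theorem mkPt_s (a : Z ⟶ G.R) (τ σ : Z ⟶ T) (h₁ h₂) :
    mkPt G x a τ σ h₁ h₂ ≫ rs' G x = σ :=
  pullback.lift_snd _ _ _

theorem ext_pt {α β : Z ⟶ RR G x} (hπ : α ≫ rπ G x = β ≫ rπ G x) (ht : α ≫ rt G x = β ≫ rt G x)
    (hs : α ≫ rs' G x = β ≫ rs' G x) : α = β := by
  refine pullback.hom_ext (pullback.hom_ext ?_ ?_) hs
  · rw [Category.assoc, Category.assoc]; exact hπ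
  · rw [Category.assoc, Category.assoc]; exact ht

theorem π_cond (α β : Z ⟶ RR G x) (h : α ≫ rs' G x = β ≫ rt G x) :
    (α ≫ rπ G x) ≫ G.s = (β ≫ rπ G x) ≫ G.t := by
  rw [Category.assoc, rπ_s, ← Category.assoc, h, Category.assoc, ← rπ_t, Category.assoc]

theorem cond_fst :
    (pullback.fst (rs' G x) (rt G x) ≫ rπ G x) ≫ G.s = (pullback.snd (rs' G x) (rt G x) ≫ rπ G x) ≫ G.t :=
  π_cond G x _ _ pullback.condition

/-- composition in the restriction -/
def rc : pullback (rs' G x) (rt G x) ⟶ RR G x :=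
  mkPt G x (ConormalSecLib.cmp G (pullback.fst _ _ ≫ rπ G x) (pullback.snd _ _ ≫ rπ G x) (cond_fst G x))
    (pullback.fst _ _ ≫ rt G x) (pullback.snd _ _ ≫ rs' G x)
    (by rw [ConormalSecLib.cmp, G.comp_t, Category.assoc, rπ_t, Category.assoc])
    (by rw [ConormalSecLib.cmp, G.comp_s, Category.assoc, rπ_s, Category.assoc])

theorem lift_rc_π (α β : Z ⟶ RR G x) (h : α ≫ rs' G x = β ≫ rt G x) :
    (pullback.lift α β h ≫ rc G x) ≫ rπ G x =
      ConormalSecLib.cmp G (α ≫ rπ G x) (β ≫ rπ G x) (π_cond G x α β h) := by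
  rw [Category.assoc, rc, mkPt_π, comp_cmp]
  exact cmp_congr G (by rw [← Category.assoc, pullback.lift_fst]) (by rw [← Category.assoc, pullback.lift_snd])

theorem lift_rc_t (α β : Z ⟶ RR G x) (h : α ≫ rs' G x = β ≫ rt G x) :
    (pullback.lift α β h ≫ rc G x) ≫ rt G x = α ≫ rt G x := by
  rw [Category.assoc, rc, mkPt_t, pullback.lift_fst_assoc]

theorem lift_rc_s (α β : Z ⟶ RR G x) (h : α ≫ rs' G x = β ≫ rt G x) :
    (pullback.lift α β h ≫ rc G x) ≫ rs' G x = β ≫ rs' G x := by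
  rw [Category.assoc, rc, mkPt_s, pullback.lift_snd_assoc]

/-- the identity of the restriction -/
def re : T ⟶ RR G x :=
  mkPt G x (x ≫ G.e) (𝟙 T) (𝟙 T) (by rw [Category.assoc, G.e_t, Category.comp_id, Category.id_comp])
    (by rw [Category.assoc, G.e_s, Category.comp_id, Category.id_comp])

/-- the inverse of the restriction -/
def ri : RR G x ⟶ RR G x :=
  mkPt G x (rπ G x ≫ G.i) (rs' G x) (rt G x) (by rw [Category.assoc, G.i_t, rπ_s])
    (by rw [Category.assoc, G.i_s, rπ_t])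

/-- restriction of a groupoid along a morphism to its objects -/
abbrev restr : Grpd.GroupoidScheme S where
  U := T
  R := RR G x
  pU := x ≫ G.pU
  pR := rπ G x ≫ G.pR
  s := rs' G x
  t := rt G x
  e := re G x
  i := ri G x
  c := rc G x
  s_over := by rw [← reassoc_of% (rπ_s G x), G.s_over]
  t_over := by rw [← reassoc_of% (rπ_t G x), G.t_over]
  comp_s := fun α β h => lift_rc_s G x α β h
  comp_t := fun α β h => lift_rc_t G x α β h
  assoc := fun α β γ h₁ h₂ => by
    refine ext_pt G x ?_ ?_ ?_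
    · refine (lift_rc_π G x _ _ _).trans (Eq.trans ?_ (lift_rc_π G x _ _ _).symm)
      refine (cmp_congr G (lift_rc_π G x α β h₁) rfl).trans ?_
      refine (G.assoc _ _ _ (π_cond G x α β h₁) (π_cond G x β γ h₂)).trans ?_
      exact cmp_congr G rfl (lift_rc_π G x β γ h₂).symm
    · rw [lift_rc_t, lift_rc_t, lift_rc_t]
    · rw [lift_rc_s, lift_rc_s, lift_rc_s]
  e_s := mkPt_s _ _ _ _ _ _ _
  e_t := mkPt_t _ _ _ _ _ _ _
  comp_e := fun α => by
    refine ext_pt G x ?_ ?_ ?_
    · rw [lift_rc_π]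
      refine Eq.trans ?_ (G.comp_e (α ≫ rπ G x))
      exact cmp_congr G rfl (by simp only [Category.assoc, re, mkPt_π]; rw [reassoc_of% (rπ_s G x)])
    · rw [lift_rc_t]
    · rw [lift_rc_s]; simp only [Category.assoc, re, mkPt_s, Category.comp_id]
  e_comp := fun α => by
    refine ext_pt G x ?_ ?_ ?_
    · rw [lift_rc_π]
      refine Eq.trans ?_ (G.e_comp (α ≫ rπ G x))
      exact cmp_congr G (by simp only [Category.assoc, re, mkPt_π]; rw [reassoc_of% (rπ_t G x)]) rfl
    · rw [lift_rc_t]; simp only [Category.assoc, re, mkPt_t, Category.comp_id]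
    · rw [lift_rc_s]
  i_s := mkPt_s _ _ _ _ _ _ _
  i_t := mkPt_t _ _ _ _ _ _ _
  comp_i := fun α => by
    refine ext_pt G x ?_ ?_ ?_
    · rw [lift_rc_π]
      refine (cmp_congr G rfl (show (α ≫ ri G x) ≫ rπ G x = (α ≫ rπ G x) ≫ G.i by
        simp only [Category.assoc, ri, mkPt_π])).trans ((G.comp_i _).trans ?_)
      simp only [Category.assoc, re, mkPt_π]
      rw [reassoc_of% (rπ_t G x)]
    · rw [lift_rc_t]; simp only [Category.assoc, re, mkPt_t, Category.comp_id]
    · rw [lift_rc_s]; simp only [Category.assoc, ri, re, mkPt_s, Category.comp_id]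
  i_comp := fun α => by
    refine ext_pt G x ?_ ?_ ?_
    · rw [lift_rc_π]
      refine (cmp_congr G (show (α ≫ ri G x) ≫ rπ G x = (α ≫ rπ G x) ≫ G.i by
        simp only [Category.assoc, ri, mkPt_π]) rfl).trans ((G.i_comp _).trans ?_)
      simp only [Category.assoc, re, mkPt_π]
      rw [reassoc_of% (rπ_s G x)]
    · rw [lift_rc_t]; simp only [Category.assoc, ri, re, mkPt_t, Category.comp_id]
    · rw [lift_rc_s]; simp only [Category.assoc, re, mkPt_s, Category.comp_id]

end GrpdFieldLib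

end
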