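import Groth.Agent.GenPointLib.Basic
import Groth.Prelude
import Mathlib

/-!
# Points of restrictions of groupoids with trivial residue field extensions
-/

set_option autoImplicit false
set_option linter.style.haveILetI false
universe u
open CategoryTheory CategoryTheory.Limits AlgebraicGeometry Cardinal

noncomputable section

namespace GrpdFieldLib

theorem trdeg_eq_mk {F K : Type u} [Field F] [Field K] [Algebra F K] [IsAlgClosed K] (h1 : #F < #K) (h2 : ℵ₀ < #K) :
    Algebra.trdeg F K = #K := by
  obtain ⟨s, hs⟩ := exists_isTranscendenceBasis F K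
  rw [← hs.cardinalMk_eq_trdeg]
  refine le_antisymm (Cardinal.mk_set_le s) ?_
  have h := IsAlgClosed.cardinal_le_max_transcendence_basis' ((↑) : s → K) hs
  rcases le_max_iff.1 h with h' | h'
  · rcases le_max_iff.1 h' with h'' | h''
    · exact absurd h1 (not_lt.2 h'')
    · exact h''
  · exact absurd h2 (not_lt.2 h')

theorem exists_auto {F K : Type u} [Field F] [Field K] [IsAlgClosed K] (a b : F →+* K) (h1 : #F < #K) (h2 : ℵ₀ < #K) :
    ∃ σ : K ≃+* K, ∀ x, σ (a x) = b x := by
  have ha := @trdeg_eq_mk F K _ _ a.toAlgebra _ h1 h2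
  have hb := @trdeg_eq_mk F K _ _ b.toAlgebra _ h1 h2
  have fa : @FaithfulSMul F K a.toAlgebra.toSMul :=
    (@faithfulSMul_iff_algebraMap_injective F K _ _ a.toAlgebra).2 a.injective
  have fb : @FaithfulSMul F K b.toAlgebra.toSMul :=
    (@faithfulSMul_iff_algebraMap_injective F K _ _ b.toAlgebra).2 b.injective
  exact @GenPointLib.exists_ringEquiv F K K _ _ _ a.toAlgebra _ b.toAlgebra fa fb _ _ (ha.trans hb.symm)

/-- Every field embeds into an algebraically closed field of strictly larger cardinality than a given field. -/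
theorem exists_big (F E : Type u) [Field F] [Field E] :
    ∃ (K : Type u) (_ : Field K) (_ : IsAlgClosed K) (_ : E →+* K), #F < #K ∧ ℵ₀ < #K := by
  let T := Set (F ⊕ ℕ)
  let K := AlgebraicClosure (FractionRing (MvPolynomial T E))
  refine ⟨K, inferInstance, inferInstance, (algebraMap (FractionRing (MvPolynomial T E)) K).comp
    ((algebraMap (MvPolynomial T E) (FractionRing (MvPolynomial T E))).comp MvPolynomial.C), ?_⟩
  have hT : #T ≤ #K := by
    refine Cardinal.mk_le_of_injective (f := fun i : T => algebraMap (FractionRing (MvPolynomial T E)) K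
      (algebraMap (MvPolynomial T E) (FractionRing (MvPolynomial T E)) (MvPolynomial.X i))) ?_
    exact ((algebraMap (FractionRing (MvPolynomial T E)) K).injective.comp
      (IsFractionRing.injective (MvPolynomial T E) (FractionRing (MvPolynomial T E)))).comp
      (fun i j h => (MvPolynomial.X_inj i j).1 h)
  have hFT : #(F ⊕ ℕ) < #T := by
    rw [Cardinal.mk_set]; exact Cardinal.cantor _
  constructor
  · exact ((Cardinal.mk_le_of_injective (f := Sum.inl) Sum.inl_injective).trans_lt hFT).trans_le hT
  · exact ((Cardinal.aleph0_le_mk (F ⊕ ℕ)).trans_lt hFT).trans_le hT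

theorem isIso_residueFieldMap_of_sec {X Y Z : Scheme.{u}} (f : X ⟶ Y) (P : Z ⟶ X) [IsIso (P ≫ f)] (z : Z) :
    IsIso (f.residueFieldMap (P z)) := by
  haveI h : IsIso ((P ≫ f).residueFieldMap z) := inferInstance
  rw [Scheme.residueFieldMap_comp] at h
  let a := f.residueFieldMap (P z)
  let b := P.residueFieldMap z
  have hb : Function.Bijective b.hom := by
    refine ⟨b.hom.injective, fun y => ?_⟩
    obtain ⟨w, hw⟩ := ((ConcreteCategory.isIso_iff_bijective (a ≫ b)).1 h).2 y
    exact ⟨a w, hw⟩
  haveI : IsIso b := (ConcreteCategory.isIso_iff_bijective b).2 hb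
  haveI : IsIso (a ≫ b) := h
  exact IsIso.of_isIso_comp_right a b

theorem exists_restriction_point {R U : Scheme.{u}} (s t : R ⟶ U) (k : Type u) [Field k]
    (eU : U ≅ Spec (CommRingCat.of k)) (r : R) :
    ∃ (k' : Type u) (_ : Field k') (_ : IsAlgClosed k') (_ : Algebra k k'),
      ∃ (P : Spec (CommRingCat.of k') ⟶ pullback (pullback.snd
          (Spec.map (CommRingCat.ofHom (algebraMap k k')) ≫ eU.inv) t ≫ s)
          (Spec.map (CommRingCat.ofHom (algebraMap k k')) ≫ eU.inv)),
        IsIso (P ≫ pullback.snd _ _) ∧ IsIso (P ≫ pullback.fst _ _ ≫ pullback.fst _ _) ∧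
        (P ≫ pullback.fst _ _ ≫ pullback.snd _ _) (IsLocalRing.closedPoint k') = r := by
  obtain ⟨K, _, _, ι, h1, h2⟩ := exists_big k (R.residueField r)
  let ρ : Spec (CommRingCat.of K) ⟶ R := Spec.map (CommRingCat.ofHom ι) ≫ R.fromSpecResidueField r
  let a := Spec.preimage (ρ ≫ t ≫ eU.hom)
  let b := Spec.preimage (ρ ≫ s ≫ eU.hom)
  obtain ⟨σ, hσ⟩ := exists_auto a.hom b.hom h1 h2
  let instA : Algebra k K := a.hom.toAlgebra
  refine ⟨K, inferInstance, inferInstance, instA, ?_⟩
  have ht : Spec.map (CommRingCat.ofHom (algebraMap k K)) ≫ eU.inv = ρ ≫ t := by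
    rw [show CommRingCat.ofHom (algebraMap k K) = a from rfl, Spec.map_preimage]
    simp
  let v : Spec (CommRingCat.of K) ⟶ Spec (CommRingCat.of K) := Spec.map (CommRingCat.ofHom σ.toRingHom)
  haveI : IsIso (CommRingCat.ofHom σ.toRingHom) := (ConcreteCategory.isIso_iff_bijective _).2 σ.bijective
  have hs : v ≫ Spec.map (CommRingCat.ofHom (algebraMap k K)) ≫ eU.inv = ρ ≫ s := by
    rw [← Category.assoc, ← Spec.map_comp, show CommRingCat.ofHom (algebraMap k K) ≫ CommRingCat.ofHom σ.toRingHom = b from
      CommRingCat.hom_ext (RingHom.ext hσ), Spec.map_preimage]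
    simp
  let P₁ := pullback.lift (f := Spec.map (CommRingCat.ofHom (algebraMap k K)) ≫ eU.inv) (g := t)
    (𝟙 _) ρ ((Category.id_comp _).trans ht)
  let P := pullback.lift (f := pullback.snd (Spec.map (CommRingCat.ofHom (algebraMap k K)) ≫ eU.inv) t ≫ s)
    (g := Spec.map (CommRingCat.ofHom (algebraMap k K)) ≫ eU.inv) P₁ v
    (by rw [← Category.assoc, pullback.lift_snd]; exact hs.symm)
  refine ⟨P, ?_, ?_, ?_⟩
  · rw [pullback.lift_snd]; infer_instance
  · rw [pullback.lift_fst_assoc, pullback.lift_fst]; infer_instance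
  · rw [pullback.lift_fst_assoc, pullback.lift_snd, Scheme.Hom.comp_apply, Scheme.fromSpecResidueField_apply]

end GrpdFieldLib

end
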