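import Groth.Agent.GrpdFieldLib.Uniq
import Groth.Agent.GrpSchLib.Cartier
import Groth.Agent.DepthLib.SmoothBCScheme
import Groth.Agent.S2259

/-!
# Smoothness of groupoids over fields
-/

set_option autoImplicit false
set_option linter.style.haveILetI false
set_option backward.isDefEq.respectTransparency false
universe u
open CategoryTheory CategoryTheory.Limits AlgebraicGeometry
open ConormalSecLib (cmp_congr comp_cmp)
open Groth.Agent.GrpField Groth.Agent.HomogDense
open Groth.Agent.GrpSchLib (dn dnInl dnFst dnMapC dnInl_fst dnInl_map dnMap_fst dnMap_id_of snd_eq)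

noncomputable section

namespace GrpdFieldLib

variable {S : Scheme.{u}} (G : Grpd.GroupoidScheme S) {k : Type u} [Field k]
  (eU : G.U ≅ Spec (CommRingCat.of k))

section Tangent

/-- the identity as a point over the field -/
abbrev eK : Spec (CommRingCat.of k) ⟶ G.R := eU.inv ≫ G.e

/-- the point of the identity -/
abbrev ptE : G.R := eK G eU (IsLocalRing.closedPoint k)

/-- the local ring at the identity -/
abbrev Loc : CommRingCat := G.R.presheaf.stalk (ptE G eU)

/-- the structure given by the target -/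
def strT : CommRingCat.of k ⟶ Loc G eU := Spec.preimage (G.R.fromSpecStalk (ptE G eU) ≫ G.t ≫ eU.hom)

/-- the structure given by the source -/
def strS : CommRingCat.of k ⟶ Loc G eU := Spec.preimage (G.R.fromSpecStalk (ptE G eU) ≫ G.s ≫ eU.hom)

/-- evaluation at the identity -/
def evE : Loc G eU ⟶ CommRingCat.of k := Scheme.stalkClosedPointTo (eK G eU)

theorem map_evE : Spec.map (evE G eU) ≫ G.R.fromSpecStalk (ptE G eU) = eK G eU :=
  Scheme.Spec_stalkClosedPointTo_fromSpecStalk _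

theorem map_strT : Spec.map (strT G eU) = G.R.fromSpecStalk (ptE G eU) ≫ G.t ≫ eU.hom := Spec.map_preimage _

theorem map_strS : Spec.map (strS G eU) = G.R.fromSpecStalk (ptE G eU) ≫ G.s ≫ eU.hom := Spec.map_preimage _

theorem strT_evE : strT G eU ≫ evE G eU = 𝟙 _ := by
  apply Spec.map_injective
  rw [Spec.map_comp, map_strT, reassoc_of% (map_evE G eU), Spec.map_id, reassoc_of% G.e_t, Iso.inv_hom_id]

theorem strS_evE : strS G eU ≫ evE G eU = 𝟙 _ := by
  apply Spec.map_injective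
  rw [Spec.map_comp, map_strS, reassoc_of% (map_evE G eU), Spec.map_id, reassoc_of% G.e_s, Iso.inv_hom_id]

/-- a point given on the local ring at the identity -/
abbrev pt {A : CommRingCat.{u}} (φ : Loc G eU ⟶ A) : Spec A ⟶ G.R :=
  Spec.map φ ≫ G.R.fromSpecStalk (ptE G eU)

theorem pt_t {A : CommRingCat.{u}} (φ : Loc G eU ⟶ A) :
    pt G eU φ ≫ G.t = Spec.map (strT G eU ≫ φ) ≫ eU.inv := by
  rw [Spec.map_comp, map_strT]; simp

theorem pt_s {A : CommRingCat.{u}} (φ : Loc G eU ⟶ A) :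
    pt G eU φ ≫ G.s = Spec.map (strS G eU ≫ φ) ≫ eU.inv := by
  rw [Spec.map_comp, map_strS]; simp

theorem map_pt {A B : CommRingCat.{u}} (g : A ⟶ B) (φ : Loc G eU ⟶ A) :
    Spec.map g ≫ pt G eU φ = pt G eU (φ ≫ g) := by
  rw [pt, pt, Spec.map_comp, Category.assoc]

theorem pt_evE_comp {A : CommRingCat.{u}} (h : CommRingCat.of k ⟶ A) :
    pt G eU (evE G eU ≫ h) = Spec.map h ≫ eK G eU := by
  rw [pt, Spec.map_comp, Category.assoc, map_evE]

theorem pt_injective {A : CommRingCat.{u}} {φ φ' : Loc G eU ⟶ A} (h : pt G eU φ = pt G eU φ') : φ = φ' :=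
  Spec.map_injective ((cancel_mono _).1 h)

theorem exists_hom_dual (φv : Loc G eU ⟶ dn (CommRingCat.of k))
    (hφv : strT G eU ≫ φv = dnInl _) (hev : φv ≫ dnFst _ = evE G eU) :
    ∃ ψ : Loc G eU ⟶ dn (Loc G eU), strT G eU ≫ ψ = strT G eU ≫ dnInl _ ∧ ψ ≫ dnFst _ = 𝟙 _ ∧
      ψ ≫ dnMapC (evE G eU) = φv := by
  have hcond : pt G eU (dnInl (Loc G eU)) ≫ G.s = pt G eU (φv ≫ dnMapC (strS G eU)) ≫ G.t := by
    rw [pt_s, pt_t, reassoc_of% hφv, dnInl_map]
  obtain ⟨c, hcd⟩ : ∃ c : Spec (dn (Loc G eU)) ⟶ G.R, c =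
      ConormalSecLib.cmp G (pt G eU (dnInl (Loc G eU))) (pt G eU (φv ≫ dnMapC (strS G eU))) hcond :=
    ⟨_, rfl⟩
  have h1 : Spec.map (dnFst (Loc G eU)) ≫ c = G.R.fromSpecStalk (ptE G eU) := by
    rw [hcd, comp_cmp]
    refine Eq.trans ?_ (G.comp_e (G.R.fromSpecStalk (ptE G eU)))
    refine cmp_congr G ?_ ?_
    · rw [map_pt, dnInl_fst, pt, Spec.map_id, Category.id_comp]
    · rw [map_pt, Category.assoc, dnMap_fst, reassoc_of% hev, pt_evE_comp, map_strS]
      simp [eK]
  have h2 : Spec.map (dnMapC (evE G eU)) ≫ c = pt G eU φv := by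
    rw [hcd, comp_cmp]
    refine Eq.trans ?_ (G.e_comp (pt G eU φv))
    refine cmp_congr G ?_ ?_
    · rw [map_pt, dnInl_map, pt_evE_comp, ← Category.assoc (pt G eU φv), pt_t, hφv]
      simp [eK]
    · rw [map_pt, Category.assoc, dnMap_id_of _ _ (strS_evE G eU), Category.comp_id]
  have h3 : c ≫ G.t = Spec.map (strT G eU ≫ dnInl _) ≫ eU.inv := by
    rw [hcd, ConormalSecLib.cmp, G.comp_t, pt_t]
  have hpt : c (IsLocalRing.closedPoint (dn (Loc G eU))) = ptE G eU := by
    have hloc : IsLocalHom (dnFst (Loc G eU)).hom :=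
      ⟨fun z hz => TrivSqZeroExt.isUnit_iff_isUnit_fst.2 hz⟩
    rw [← Spec_closedPoint (f := dnFst (Loc G eU))]
    exact (congr($h1 (IsLocalRing.closedPoint (Loc G eU)))).trans Scheme.fromSpecStalk_closedPoint
  have key : ∀ (x : G.R), c (IsLocalRing.closedPoint (dn (Loc G eU))) = x →
      ∃ ψ : G.R.presheaf.stalk x ⟶ dn (Loc G eU), Spec.map ψ ≫ G.R.fromSpecStalk x = c := by
    rintro x rfl
    exact ⟨_, Scheme.Spec_stalkClosedPointTo_fromSpecStalk c⟩
  obtain ⟨ψ, hψ⟩ := key _ hpt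
  refine ⟨ψ, ?_, ?_, ?_⟩
  · apply Spec.map_injective
    rw [← cancel_mono eU.inv, ← h3, ← pt_t, pt, hψ]
  · apply pt_injective G eU
    rw [← map_pt, pt, hψ, h1, pt, Spec.map_id, Category.id_comp]
  · apply pt_injective G eU
    rw [← map_pt, pt, hψ, h2]

theorem isReduced_stalk_e [CharZero k] [IsLocallyNoetherian G.R] : _root_.IsReduced (Loc G eU) := by
  let : Algebra k (Loc G eU) := (strT G eU).hom.toAlgebra
  let ev : Loc G eU →ₐ[k] k :=
    { (evE G eU).hom with
      commutes' := fun c => congr($(strT_evE G eU) c) }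
  refine Groth.Agent.GrpSchLib.isReduced_of_dual_lifts ev fun φ hφ hev => ?_
  obtain ⟨ψ, hψ, hψ1, hψ2⟩ := exists_hom_dual G eU (CommRingCat.ofHom φ)
    (CommRingCat.hom_ext (RingHom.ext hφ)) (CommRingCat.hom_ext (RingHom.ext hev))
  refine ⟨ψ.hom, fun c => congr($hψ c), fun f => congr($hψ1 f), fun f => ?_⟩
  have h := congrArg TrivSqZeroExt.snd (show dnMapC (evE G eU) (ψ f) = φ f from congr($hψ2 f))
  rw [snd_eq] at h
  exact h

end Tangent

section Locus

variable [LocallyOfFinitePresentation G.t]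

include eU in
theorem mem_smoothLocus_iff (z : G.R) (p : G.U) : z ∈ G.t.smoothLocus ↔ G.e p ∈ G.t.smoothLocus := by
  haveI := subsingleton_U G k eU
  obtain ⟨K, _, _, r, hr⟩ := exists_geomPoint z
  let q : Spec (CommRingCat.of K) := IsLocalRing.closedPoint K
  haveI := flat_to_U G eU (r ≫ G.t)
  haveI := flat_to_U G eU (r ≫ G.s)
  let v := translIso G r
  have h1 : ∀ w, w ∈ (pullback.snd G.t (r ≫ G.t)).smoothLocus ↔ pullback.fst G.t (r ≫ G.t) w ∈ G.t.smoothLocus :=
    fun w => DepthLib.mem_smoothLocus_baseChange_scheme G.t (r ≫ G.t) _ _ (IsPullback.of_hasPullback _ _)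
      (Or.inr inferInstance) w
  have h2 : ∀ w, w ∈ (pullback.snd G.t (r ≫ G.s)).smoothLocus ↔ pullback.fst G.t (r ≫ G.s) w ∈ G.t.smoothLocus :=
    fun w => DepthLib.mem_smoothLocus_baseChange_scheme G.t (r ≫ G.s) _ _ (IsPullback.of_hasPullback _ _)
      (Or.inr inferInstance) w
  have e1 : pullback.fst G.t (r ≫ G.t) (v.hom (eX G (r ≫ G.s) q)) = z := by
    rw [← Scheme.Hom.comp_apply, ← Scheme.Hom.comp_apply, show v.hom = transl G r from rfl, eX_transl]
    exact hr q
  have e2 : pullback.fst G.t (r ≫ G.s) (eX G (r ≫ G.s) q) = G.e p := by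
    rw [← Scheme.Hom.comp_apply, eX, pullback.lift_fst, Scheme.Hom.comp_apply, Subsingleton.elim ((r ≫ G.s) q) p]
  have h3 : v.hom ⁻¹ᵁ (pullback.snd G.t (r ≫ G.t)).smoothLocus = (pullback.snd G.t (r ≫ G.s)).smoothLocus := by
    rw [Scheme.Hom.preimage_smoothLocus_eq]
    simp only [show v.hom ≫ pullback.snd G.t (r ≫ G.t) = pullback.snd G.t (r ≫ G.s) from pullback.lift_snd _ _ _]
  rw [← e1, ← e2, ← h1, ← h2, ← h3]
  exact Iff.rfl

include eU in
theorem smooth_t_of_nonempty (hne : (G.t.smoothLocus : Set G.R).Nonempty) : Smooth G.t := by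
  obtain ⟨w, hw⟩ := hne
  rw [← Scheme.Hom.smoothLocus_eq_top_iff]
  refine top_unique fun z _ => ?_
  exact (mem_smoothLocus_iff G eU z (G.t w)).2 ((mem_smoothLocus_iff G eU w (G.t w)).1 hw)

include eU in
theorem smooth_t_of_reduced_open [PerfectField k] (W : G.R.Opens) (p : G.U) (hp : G.e p ∈ W)
    [IsReduced (W : Scheme.{u})] : Smooth G.t := by
  haveI : LocallyOfFinitePresentation (G.t ≫ eU.hom) := inferInstance
  haveI : Nonempty (W : Scheme.{u}) := ⟨⟨G.e p, hp⟩⟩
  obtain ⟨w, hw⟩ := (W.ι ≫ G.t ≫ eU.hom).dense_smoothLocus_of_perfectField.nonempty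
  refine smooth_t_of_nonempty G eU ⟨W.ι w, ?_⟩
  have h1 : W.ι w ∈ (G.t ≫ eU.hom).smoothLocus := by
    rw [← Scheme.Hom.mem_preimage, Scheme.Hom.preimage_smoothLocus_eq]; exact hw
  rw [Scheme.Hom.mem_smoothLocus] at h1
  show (G.t.stalkMap (W.ι w)).hom.FormallySmooth
  rw [Scheme.Hom.stalkMap_comp] at h1
  exact (RingHom.FormallySmooth.respectsIso.cancel_left_isIso _ _).1 h1

end Locus

omit [Field k] in
theorem smooth_s_of_smooth_t [Smooth G.t] : Smooth G.s := by
  haveI : IsIso G.i := ⟨G.i, GrpdLib.i_i G, GrpdLib.i_i G⟩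
  rw [← G.i_t]
  infer_instance

include eU in
theorem lfp_t [LocallyOfFiniteType G.t] : LocallyOfFinitePresentation G.t :=
  haveI : IsLocallyNoetherian G.U := isLocallyNoetherian_of_isOpenImmersion eU.hom
  inferInstance

include eU in
theorem smooth_charZero [CharZero k] [LocallyOfFiniteType G.t] : Smooth G.s ∧ Smooth G.t := by
  haveI := lfp_t G eU
  haveI : IsLocallyNoetherian G.U := isLocallyNoetherian_of_isOpenImmersion eU.hom
  haveI : IsLocallyNoetherian G.R := LocallyOfFiniteType.isLocallyNoetherian G.t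
  haveI := isReduced_stalk_e G eU
  obtain ⟨W, hW, hred⟩ := Groth.Agent.S2259.result G.R (ptE G eU)
  haveI := hred
  haveI : Smooth G.t := smooth_t_of_reduced_open G eU W (eU.inv (IsLocalRing.closedPoint k)) hW
  exact ⟨smooth_s_of_smooth_t G, inferInstance⟩

include eU in
theorem smooth_perfect [PerfectField k] [IsReduced G.R] [LocallyOfFiniteType G.t] : Smooth G.s ∧ Smooth G.t := by
  haveI := lfp_t G eU
  haveI : IsReduced ((⊤ : G.R.Opens) : Scheme.{u}) := isReduced_of_isOpenImmersion (⊤ : G.R.Opens).ι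
  haveI : Smooth G.t := smooth_t_of_reduced_open G eU ⊤ (eU.inv (IsLocalRing.closedPoint k)) trivial
  exact ⟨smooth_s_of_smooth_t G, inferInstance⟩

end GrpdFieldLib

end
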