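import Groth.Agent.GrpdFieldLib.Restrict
import Groth.Agent.GrpFieldLib.Extra
import Groth.Agent.GrpdLib.InvOpen

/-!
# Components of a groupoid over a field
-/

set_option autoImplicit false
set_option linter.style.haveILetI false
set_option backward.isDefEq.respectTransparency false
universe u
open CategoryTheory CategoryTheory.Limits AlgebraicGeometry
open ConormalSecLib (cmp_congr comp_cmp)
open Groth.Agent.GrpField Groth.Agent.HomogDense

noncomputable section

namespace GrpdFieldLib

variable {S : Scheme.{u}} (G : Grpd.GroupoidScheme S)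

theorem e_i : G.e ≫ G.i = G.e := by
  have h₁ : (G.e ≫ G.i) ≫ G.s = G.e ≫ G.t := by rw [Category.assoc, G.i_s]
  have h := G.comp_e (G.e ≫ G.i)
  have h' := G.i_comp G.e
  rw [reassoc_of% G.e_s] at h'
  refine h.symm.trans (Eq.trans ?_ h')
  exact cmp_congr G rfl (by rw [Category.assoc, reassoc_of% G.i_s, reassoc_of% G.e_t])

theorem subsingleton_field (k : Type u) [Field k] : Subsingleton ↥(Spec (CommRingCat.of k)) :=
  inferInstanceAs (Subsingleton (PrimeSpectrum k))

theorem subsingleton_U (k : Type u) [Field k] (eU : G.U ≅ Spec (CommRingCat.of k)) : Subsingleton ↥G.U :=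
  haveI := subsingleton_field k
  (Scheme.homeoOfIso eU).toEquiv.subsingleton

theorem exists_closure_subscheme {X : Scheme.{u}} (a : X) :
    ∃ (Z : Scheme.{u}) (ι₀ : Z ⟶ X), IrreducibleSpace Z ∧ Set.range ι₀ = closure {a} := by
  let I := Scheme.IdealSheafData.vanishingIdeal (X := X) ⟨closure {a}, isClosed_closure⟩
  have hr : Set.range I.subschemeι = closure {a} := by
    rw [Scheme.IdealSheafData.range_subschemeι, Scheme.IdealSheafData.coe_support_vanishingIdeal]
    rfl
  refine ⟨I.subscheme, I.subschemeι, ?_, hr⟩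
  haveI : IrreducibleSpace ↥(Set.range I.subschemeι) :=
    Subtype.irreducibleSpace (hr.symm ▸ isIrreducible_singleton.closure)
  exact I.subschemeι.isClosedEmbedding.isEmbedding.toHomeomorph.irreducibleSpace_iff.2 this

section AlgClosed

variable {K : Type u} [Field K] (eU : G.U ≅ Spec (CommRingCat.of K))

/-- the target as a morphism to the field -/
abbrev tK : G.R ⟶ Spec (CommRingCat.of K) := G.t ≫ eU.hom

/-- pairs of arrows with the same target, over the field -/
abbrev PK : Scheme.{u} := pullback (tK G eU) (tK G eU)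

theorem PK_cond : pullback.fst (tK G eU) (tK G eU) ≫ G.t = pullback.snd (tK G eU) (tK G eU) ≫ G.t := by
  rw [← cancel_mono eU.hom, Category.assoc, Category.assoc]
  exact pullback.condition

/-- `(a, b) ↦ a⁻¹ b` -/
def divK : PK G eU ⟶ G.R :=
  ConormalSecLib.cmp G (pullback.fst (tK G eU) (tK G eU) ≫ G.i) (pullback.snd (tK G eU) (tK G eU))
    (by rw [Category.assoc, G.i_s, PK_cond])

theorem te_t : (G.t ≫ G.e) ≫ G.t = G.t := by rw [Category.assoc, G.e_t, Category.comp_id]

/-- `a ↦ (a, e)` -/
def sec₁ : G.R ⟶ PK G eU :=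
  pullback.lift (𝟙 G.R) (G.t ≫ G.e) (by rw [Category.id_comp, ← Category.assoc, te_t])

/-- `b ↦ (e, b)` -/
def sec₂ : G.R ⟶ PK G eU :=
  pullback.lift (G.t ≫ G.e) (𝟙 G.R) (by rw [Category.id_comp, ← Category.assoc, te_t])

theorem sec₁_divK : sec₁ G eU ≫ divK G eU = G.i := by
  rw [divK, comp_cmp]
  refine Eq.trans ?_ (G.comp_e G.i)
  refine cmp_congr G ?_ ?_
  · rw [sec₁, pullback.lift_fst_assoc, Category.id_comp]
  · rw [sec₁, pullback.lift_snd, reassoc_of% G.i_s]

theorem sec₂_divK : sec₂ G eU ≫ divK G eU = 𝟙 G.R := by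
  rw [divK, comp_cmp]
  refine Eq.trans ?_ (G.e_comp (𝟙 G.R))
  refine cmp_congr G ?_ ?_
  · rw [sec₂, pullback.lift_fst_assoc, Category.assoc, e_i, Category.id_comp]
  · rw [sec₂, pullback.lift_snd]

variable [IsAlgClosed K]

include eU in
theorem uniqAt_e_algClosed (p : G.U) : UniqAt (G.e p) := by
  haveI := subsingleton_U G K eU
  have key : ∀ a b : G.R, IsMaxPt a → IsMaxPt b → a ⤳ G.e p → b ⤳ G.e p → G.i a = b := by
    intro a b ha hb hap hbp
    obtain ⟨Z₁, ι₁, hirr₁, hr₁⟩ := exists_closure_subscheme a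
    obtain ⟨Z₂, ι₂, hirr₂, hr₂⟩ := exists_closure_subscheme b
    haveI := gi_of_irreducible_algClosed (ι₁ ≫ tK G eU)
    haveI : UniversallyOpen (ι₁ ≫ tK G eU) := universallyOpen_field _
    let m : pullback (ι₁ ≫ tK G eU) (ι₂ ≫ tK G eU) ⟶ PK G eU :=
      pullback.map _ _ _ _ ι₁ ι₂ (𝟙 _) (Category.comp_id _) (Category.comp_id _)
    have hm : Set.range m = (pullback.fst (tK G eU) (tK G eU)) ⁻¹' closure {a} ∩
        (pullback.snd (tK G eU) (tK G eU)) ⁻¹' closure {b} := by
      refine (Scheme.Pullback.range_map _ _ _ _ ι₁ ι₂ (𝟙 _) _ _).trans ?_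
      rw [hr₁, hr₂]
    have hirr : IsIrreducible (Set.range m) := by
      rw [← Set.image_univ]
      exact (IrreducibleSpace.isIrreducible_univ _).image _ m.continuous.continuousOn
    have hθ : ∀ q ∈ Set.range m, hirr.genericPoint ⤳ q := fun q hq =>
      hirr.isGenericPoint_genericPoint_closure.specializes (subset_closure hq)
    have h1 : sec₁ G eU a ∈ Set.range m := by
      rw [hm]
      refine ⟨?_, ?_⟩
      · rw [Set.mem_preimage, ← Scheme.Hom.comp_apply, sec₁, pullback.lift_fst]
        exact subset_closure rfl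
      · rw [Set.mem_preimage, ← Scheme.Hom.comp_apply, sec₁, pullback.lift_snd, Scheme.Hom.comp_apply,
          Subsingleton.elim (G.t a) p]
        exact hbp.mem_closure
    have h2 : sec₂ G eU b ∈ Set.range m := by
      rw [hm]
      refine ⟨?_, ?_⟩
      · rw [Set.mem_preimage, ← Scheme.Hom.comp_apply, sec₂, pullback.lift_fst, Scheme.Hom.comp_apply,
          Subsingleton.elim (G.t b) p]
        exact hap.mem_closure
      · rw [Set.mem_preimage, ← Scheme.Hom.comp_apply, sec₂, pullback.lift_snd]
        exact subset_closure rfl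
    have e1 : divK G eU hirr.genericPoint ⤳ G.i a := by
      have := (hθ _ h1).map (divK G eU).continuous
      rwa [← Scheme.Hom.comp_apply, sec₁_divK] at this
    have e2 : divK G eU hirr.genericPoint ⤳ b := by
      have := (hθ _ h2).map (divK G eU).continuous
      rwa [← Scheme.Hom.comp_apply, sec₂_divK] at this
    haveI : IsIso G.i := ⟨G.i, GrpdLib.i_i G, GrpdLib.i_i G⟩
    exact (isMax_homeo' G.i.homeomorph ha _ e1).symm.trans (hb _ e2)
  intro a b ha hb hap hbp
  exact (key a a ha ha hap hap).symm.trans (key a b ha hb hap hbp)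

end AlgClosed

section General

variable {k : Type u} [Field k] (eU : G.U ≅ Spec (CommRingCat.of k))

include eU in
theorem flat_to_U {X : Scheme.{u}} (f : X ⟶ G.U) : Flat f :=
  (MorphismProperty.cancel_right_of_respectsIso @Flat f eU.hom).1 (flat_field _)

variable {K : Type u} [Field K] [IsAlgClosed K] (x : Spec (CommRingCat.of K) ⟶ G.U)

/-- the identity in the base change of `t` -/
def eX : Spec (CommRingCat.of K) ⟶ pullback G.t x :=
  pullback.lift (x ≫ G.e) (𝟙 _) (by rw [Category.assoc, G.e_t, Category.comp_id, Category.id_comp])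

include eU in
theorem uniqAt_eX (q : Spec (CommRingCat.of K)) : UniqAt (eX G x q) := by
  haveI := flat_to_U G eU x
  have h := (uniqAt_e_algClosed (restr G x) (Iso.refl _) q).map
    (pullback.fst (pullback.fst G.t x ≫ G.s) x)
  have he : re G x ≫ pullback.fst (pullback.fst G.t x ≫ G.s) x = eX G x := by
    rw [re, mkPt, pullback.lift_fst]; rfl
  have e : (pullback.fst (pullback.fst G.t x ≫ G.s) x) ((restr G x).e q) = eX G x q := by
    rw [← Scheme.Hom.comp_apply]
    exact congrArg (fun f : Spec (CommRingCat.of K) ⟶ pullback G.t x => f q) he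
  exact e ▸ h

end General

section All

variable {k : Type u} [Field k] (eU : G.U ≅ Spec (CommRingCat.of k))
  {T : Scheme.{u}} (r : T ⟶ G.R)

theorem transl_cond : (pullback.snd G.t (r ≫ G.s) ≫ r) ≫ G.s = pullback.fst G.t (r ≫ G.s) ≫ G.t := by
  rw [Category.assoc, pullback.condition]

/-- left translation by an arrow -/
def transl : pullback G.t (r ≫ G.s) ⟶ pullback G.t (r ≫ G.t) :=
  pullback.lift (ConormalSecLib.cmp G (pullback.snd G.t (r ≫ G.s) ≫ r) (pullback.fst G.t (r ≫ G.s))
    (transl_cond G r)) (pullback.snd G.t (r ≫ G.s)) (by rw [ConormalSecLib.cmp, G.comp_t, Category.assoc])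

theorem untransl_cond :
    (pullback.snd G.t (r ≫ G.t) ≫ r ≫ G.i) ≫ G.s = pullback.fst G.t (r ≫ G.t) ≫ G.t := by
  rw [Category.assoc, Category.assoc, G.i_s, pullback.condition]

/-- left translation by the inverse -/
def untransl : pullback G.t (r ≫ G.t) ⟶ pullback G.t (r ≫ G.s) :=
  pullback.lift (ConormalSecLib.cmp G (pullback.snd G.t (r ≫ G.t) ≫ r ≫ G.i) (pullback.fst G.t (r ≫ G.t))
    (untransl_cond G r)) (pullback.snd G.t (r ≫ G.t))
    (by rw [ConormalSecLib.cmp, G.comp_t, Category.assoc, Category.assoc, G.i_t])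

/-- left translation as an isomorphism -/
def translIso : pullback G.t (r ≫ G.s) ≅ pullback G.t (r ≫ G.t) where
  hom := transl G r
  inv := untransl G r
  hom_inv_id := by
    apply pullback.hom_ext
    · rw [untransl, Category.assoc, pullback.lift_fst, comp_cmp, Category.id_comp]
      refine (cmp_congr G (show transl G r ≫ pullback.snd G.t (r ≫ G.t) ≫ r ≫ G.i =
        (pullback.snd G.t (r ≫ G.s) ≫ r) ≫ G.i by rw [transl, pullback.lift_snd_assoc, Category.assoc])
        (show transl G r ≫ pullback.fst G.t (r ≫ G.t) = _ from pullback.lift_fst _ _ _)).trans ?_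
      exact ConormalSecLib.cmp_inv_cmp_left G _ _ (transl_cond G r) _
    · rw [untransl, Category.assoc, pullback.lift_snd, transl, pullback.lift_snd, Category.id_comp]
  inv_hom_id := by
    apply pullback.hom_ext
    · rw [transl, Category.assoc, pullback.lift_fst, comp_cmp, Category.id_comp]
      refine (cmp_congr G (show untransl G r ≫ pullback.snd G.t (r ≫ G.s) ≫ r =
        pullback.snd G.t (r ≫ G.t) ≫ r by rw [untransl, pullback.lift_snd_assoc])
        (show untransl G r ≫ pullback.fst G.t (r ≫ G.s) = _ from pullback.lift_fst _ _ _)).trans ?_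
      refine (cmp_congr G rfl (cmp_congr G (h := untransl_cond G r)
        (show pullback.snd G.t (r ≫ G.t) ≫ r ≫ G.i = (pullback.snd G.t (r ≫ G.t) ≫ r) ≫ G.i from
          (Category.assoc _ _ _).symm) rfl)).trans ?_
      exact ConormalSecLib.cmp_cmp_inv_left G _ _ (by rw [Category.assoc, pullback.condition]) _ _
    · rw [transl, Category.assoc, pullback.lift_snd, untransl, pullback.lift_snd, Category.id_comp]

theorem eX_transl {K : Type u} [Field K] (r : Spec (CommRingCat.of K) ⟶ G.R) :
    eX G (r ≫ G.s) ≫ transl G r ≫ pullback.fst G.t (r ≫ G.t) = r := by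
  rw [transl, pullback.lift_fst, comp_cmp]
  refine Eq.trans ?_ (G.comp_e r)
  refine cmp_congr G ?_ ?_
  · rw [eX, pullback.lift_snd_assoc, Category.id_comp]
  · rw [eX, pullback.lift_fst, Category.assoc]

include eU in
theorem uniqAt_grpd (z : G.R) : UniqAt z := by
  obtain ⟨K, _, _, r, hr⟩ := exists_geomPoint z
  let q : Spec (CommRingCat.of K) := IsLocalRing.closedPoint K
  haveI := flat_to_U G eU (r ≫ G.t)
  have h := ((uniqAt_eX G eU (r ≫ G.s) q).homeo (Scheme.homeoOfIso (translIso G r))).map
    (pullback.fst G.t (r ≫ G.t))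
  have e : pullback.fst G.t (r ≫ G.t) ((translIso G r).hom (eX G (r ≫ G.s) q)) = z := by
    rw [← Scheme.Hom.comp_apply, ← Scheme.Hom.comp_apply,
      show (translIso G r).hom = transl G r from rfl, eX_transl]
    exact hr q
  exact e ▸ h

end All

end GrpdFieldLib

end
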